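import Groth.Agent.AlgSpB.SubQC.Approx
import Groth.Agent.AlgSpQC.Chain
import Mathlib.CategoryTheory.Subobject.Basic

/-!
# The subobjects of finite type of a quasi-coherent module
-/

universe u

open CategoryTheory CategoryTheory.Limits AlgebraicGeometry Opposite

set_option backward.isDefEq.respectTransparency false
set_option backward.isDefEq.respectTransparency.types false
set_option autoImplicit false
set_option maxHeartbeats 800000

namespace Groth.Agent.AlgSpB.SubQC

open _root_.AlgSp
open Groth.Agent.AlgSpQC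

variable {S : Scheme.{u}} {X : Space S} {M N : ModEt X.obj}

/-- The factorisation of a map through a local family of submodules. -/
noncomputable def LocalSub.lift (P : LocalSub M) (φ : N ⟶ M)
    (h : ∀ E (s : sectModEt N E), hs φ E s ∈ P.carrier E) : N ⟶ P.mod :=
  ⟨PresheafOfModules.homMk
    { app := fun E => AddCommGrpCat.ofHom
        { toFun := fun s => (⟨hs φ E.unop s, h E.unop s⟩ : sectModEt P.mod E.unop)
          map_zero' := Subtype.ext (map_zero (hs φ E.unop))
          map_add' := fun a b => Subtype.ext (map_add (hs φ E.unop) a b) }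
      naturality := fun E E' g => by
        ext s
        exact Subtype.ext (hs_rs φ g.unop s) }
    (fun E r s => Subtype.ext ((φ.val.app E).hom.map_smul r s))⟩

theorem LocalSub.lift_ι (P : LocalSub M) (φ : N ⟶ M) (h : ∀ E (s : sectModEt N E), hs φ E s ∈ P.carrier E) :
    P.lift φ h ≫ P.ι = φ := by
  ext E s
  rfl

theorem eq_of_forall_affine {E : EtOver X.obj} {s t : sectModEt M E}
    (h : ∀ (W : EtOver X.obj) (g : W ⟶ E), IsAffine W.obj.left.left → rs M g s = rs M g t) : s = t := by
  obtain ⟨T, hT, hT'⟩ := exists_affine_sieve E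
  refine eq_of_sieve hT fun V f hf => ?_
  obtain ⟨W, a, b, hW, rfl⟩ := hT' V f hf
  rw [rs_comp, rs_comp, h W b hW]

theorem mem_of_affine (P : LocalSub M) (φ : N ⟶ M)
    (h : ∀ E, IsAffine E.obj.left.left → ∀ s : sectModEt N E, hs φ E s ∈ P.carrier E) (E : EtOver X.obj)
    (s : sectModEt N E) : hs φ E s ∈ P.carrier E := by
  obtain ⟨T, hT, hT'⟩ := exists_affine_sieve E
  refine P.local_mem hT fun V f hf => ?_
  obtain ⟨W, a, b, hW, rfl⟩ := hT' V f hf
  rw [rs_comp, ← hs_rs]
  exact P.res_mem a (h W hW _)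

/-- Membership of the image of a quasi-coherent module is tested on an atlas. -/
theorem mem_of_chart [M.IsQuasicoherent] [N.IsQuasicoherent] {P : LocalSub M} (φ : N ⟶ M)
    {E₀ : EtOver X.obj} [IsAffine E₀.obj.left.left] (h₀ : ∀ x : Points X.obj, ∃ u, Points.ofPt E₀.obj.hom u = x)
    (h : ∀ s : sectModEt N E₀, hs φ E₀ s ∈ P.carrier E₀) (E : EtOver X.obj) (s : sectModEt N E) :
    hs φ E s ∈ P.carrier E := by
  refine mem_of_affine P φ (fun W hW t => ?_) E s
  obtain ⟨T, hT, hT'⟩ := exists_cover_hom h₀ W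
  refine P.local_mem hT fun V f hf => ?_
  obtain ⟨W', a, b, c, hW', rfl⟩ := hT' V f hf
  rw [rs_comp, ← hs_rs]
  refine P.res_mem a ?_
  obtain ⟨d, hd⟩ := (bc_of_isQuasicoherent (M := N) c).1 (rs N b t)
  rw [← hd, Finsupp.linearCombination_apply, map_finsuppSum]
  refine Submodule.sum_mem _ fun z _ => ?_
  change hs φ W' (d z • rs N c z) ∈ P.carrier W'
  rw [map_smul, hs_rs]
  exact Submodule.smul_mem _ _ (P.res_mem c (h z))

theorem isQuasicoherent_of_iso (e : N ≅ M) [M.IsQuasicoherent] : N.IsQuasicoherent :=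
  isQuasicoherent_of_exact_mono (ShortComplex.mk e.hom (0 : M ⟶ M) comp_zero)
    ((ShortComplex.exact_iff_epi _ rfl).2 inferInstance)

theorem fg_of_finite [M.IsQuasicoherent] {φ : N ⟶ M} [N.IsQuasicoherent] [N.IsFiniteType] (E : EtOver X.obj)
    [IsAffine E.obj.left.left] : ∃ (κ : Type u) (_ : Finite κ) (m : κ → sectModEt M E),
      ∀ P : LocalSub M, (∀ i, m i ∈ P.carrier E) → ∀ s : sectModEt N E, hs φ E s ∈ P.carrier E := by
  have : Module.Finite (gr E) (sectModEt N E) := finite_sections E
  obtain ⟨n, s, hs'⟩ := Module.Finite.exists_fin (R := gr E) (M := sectModEt N E)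
  refine ⟨ULift.{u} (Fin n), inferInstance, fun i => hs φ E (s i.down), fun P hP t => ?_⟩
  have ht : t ∈ Submodule.span (gr E) (Set.range s) := hs' ▸ trivial
  induction ht using Submodule.span_induction with
  | mem x hx =>
    obtain ⟨i, rfl⟩ := hx
    exact hP ⟨i⟩
  | zero => rw [map_zero]; exact Submodule.zero_mem _
  | add x y _ _ hx hy => rw [map_add]; exact Submodule.add_mem _ hx hy
  | smul r x _ hx => rw [map_smul]; exact Submodule.smul_mem _ _ hx

theorem isFiniteType_mod [M.IsQuasicoherent] {P : LocalSub M} (hP : Gen P)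
    (hfg : ∀ E, IsAffine E.obj.left.left → (P.carrier E).FG) : P.mod.IsFiniteType := by
  have := isQuasicoherent_of_gen hP
  refine isFiniteType_of_finite fun E hE => ?_
  have hr : LinearMap.range (P.incl E) = P.carrier E := by
    ext z; exact ⟨by rintro ⟨t, rfl⟩; exact t.2, fun hz => ⟨⟨z, hz⟩, rfl⟩⟩
  have : Module.Finite (gr E) (LinearMap.range (P.incl E)) := Module.Finite.iff_fg.2 (hr.symm ▸ hfg E hE)
  exact Module.Finite.equiv (LinearEquiv.ofInjective _ (incl_injective P E)).symm

variable [QuasiSeparatedSpace ↥S] [M.IsQuasicoherent]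

/-- A finite type subobject through given sections, above given subobjects of finite type. -/
theorem exists_finSub (hqc : IsQuasiCompactSp X.obj) (hqs : IsQuasiSeparatedSp X.obj)
    {κ : Type u} [Finite κ] (N : κ → ModEt X.obj) (φ : ∀ i, N i ⟶ M) (hN : ∀ i, (N i).IsQuasicoherent)
    (hN' : ∀ i, (N i).IsFiniteType) {E : EtOver X.obj} [IsAffine E.obj.left.left] (m : sectModEt M E) :
    ∃ (K : Subobject M), (Subobject.underlying.obj K).IsQuasicoherent ∧ (Subobject.underlying.obj K).IsFiniteType ∧
      (∀ i, ∃ l : N i ⟶ Subobject.underlying.obj K, l ≫ K.arrow = φ i) ∧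
      ∃ t : sectModEt (Subobject.underlying.obj K) E, hs K.arrow E t = m := by
  obtain ⟨U, p, hU, hp, hps⟩ := AlgSpEN.exists_affine_atlas X hqc
  have hE₀ : IsAffine (EtOver.mk p hp).obj.left.left := hU
  have h₀ : ∀ x : Points X.obj, ∃ u, Points.ofPt (EtOver.mk p hp).obj.hom u = x := AlgSpB.surjective_ofPt hps
  choose κ' hκ' mm hmm using fun i => (have := hN i; have := hN' i; fg_of_finite (φ := φ i) (EtOver.mk p hp))
  have := hκ'
  obtain ⟨J, hJ, -, hfg, hmem⟩ := exists_fg_le hqc hqs (gen_topSub (M := M))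
    (κ := (Σ i, κ' i) ⊕ PUnit.{u + 1}) (fun i => Sum.elim (fun _ => EtOver.mk p hp) (fun _ => E) i)
    (fun i => by rcases i with i | i <;> assumption)
    (fun i => match i with | .inl k => mm k.1 k.2 | .inr _ => m) (fun i => trivial)
  let K := Subobject.mk J.ι
  let e : Subobject.underlying.obj K ≅ J.mod := Subobject.underlyingIso J.ι
  have hqJ := isQuasicoherent_of_gen hJ
  have hftJ := isFiniteType_mod hJ hfg
  have hqK := isQuasicoherent_of_iso e
  refine ⟨K, hqK, isFiniteType_of_finite fun W hW => ?_, fun i => ?_, ?_⟩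
  · have := finite_sections (M := J.mod) W
    refine Module.Finite.of_surjective (hs e.inv W) fun y => ⟨hs e.hom W y, ?_⟩
    rw [← hs_comp, e.hom_inv_id]
    rfl
  · have := hN i
    refine ⟨J.lift (φ i) (fun W s => mem_of_chart (φ i) h₀ (hmm i J fun k => hmem (.inl ⟨i, k⟩)) W s) ≫ e.inv, ?_⟩
    rw [Category.assoc, Subobject.underlyingIso_arrow, LocalSub.lift_ι]
  · refine ⟨hs e.inv E (⟨m, hmem (.inr PUnit.unit)⟩ : sectModEt J.mod E), ?_⟩
    rw [← hs_comp, Subobject.underlyingIso_arrow]
    rfl

section Colim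

variable {P : ObjectProperty (Subobject M)}
  (hP : P = fun N => (Subobject.underlying.obj N).IsQuasicoherent ∧ (Subobject.underlying.obj N).IsFiniteType)
  (hqc : IsQuasiCompactSp X.obj) (hqs : IsQuasiSeparatedSp X.obj)

include hP hqc hqs

theorem exists_upper {κ : Type u} [Finite κ] (a : κ → P.FullSubcategory) {E : EtOver X.obj}
    [IsAffine E.obj.left.left] (m : sectModEt M E) :
    ∃ c : P.FullSubcategory, (∀ i, Nonempty (a i ⟶ c)) ∧
      ∃ t : sectModEt (Subobject.underlying.obj c.obj) E, hs c.obj.arrow E t = m := by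
  have ha : ∀ i, (Subobject.underlying.obj (a i).obj).IsQuasicoherent ∧
      (Subobject.underlying.obj (a i).obj).IsFiniteType := fun i => by
    exact cast (congrFun hP (a i).obj) (a i).property
  obtain ⟨K, h1, h2, h3, h4⟩ := exists_finSub hqc hqs (fun i => Subobject.underlying.obj (a i).obj)
    (fun i => (a i).obj.arrow) (fun i => (ha i).1) (fun i => (ha i).2) m
  refine ⟨⟨K, cast (congrFun hP K).symm ⟨h1, h2⟩⟩, fun i => ?_, h4⟩
  obtain ⟨l, hl⟩ := h3 i
  exact ⟨ObjectProperty.homMk (homOfLE (Subobject.le_of_comm l hl))⟩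

/-- The subobjects of finite type form a filtered category. -/
theorem isFiltered_finSub : IsFiltered P.FullSubcategory := by
  obtain ⟨U, p, hU, hp, -⟩ := AlgSpEN.exists_affine_atlas X hqc
  have : IsAffine (EtOver.mk p hp).obj.left.left := hU
  have hs : ∀ {a b : P.FullSubcategory} (f g : a ⟶ b), f = g := fun f g =>
    ObjectProperty.hom_ext _ (Subsingleton.elim _ _)
  have : Nonempty P.FullSubcategory :=
    ⟨(exists_upper hP hqc hqs (PEmpty.elim : PEmpty.{u + 1} → P.FullSubcategory) (E := EtOver.mk p hp) 0).choose⟩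
  have : IsFilteredOrEmpty P.FullSubcategory := ⟨fun a b => by
    obtain ⟨c, hc, -⟩ := exists_upper hP hqc hqs
      (fun i : ULift.{u} Bool => if i.down then a else b) (E := EtOver.mk p hp) 0
    exact ⟨c, (hc ⟨true⟩).some, (hc ⟨false⟩).some, trivial⟩, fun a b f g => ⟨b, 𝟙 b, by rw [hs f g]⟩⟩
  constructor

variable {T : ModEt X.obj}
  (φ : P.ι ⋙ Subobject.underlying ⟶ (Functor.const P.FullSubcategory).obj T)

/-- `t` is the value of a compatible family at an affine section. -/
def IsVal (E : EtOver X.obj) (z : sectModEt M E) (t : sectModEt T E) : Prop :=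
  ∀ (a : P.FullSubcategory) (s : sectModEt (Subobject.underlying.obj a.obj) E),
    hs a.obj.arrow E s = z → hs (φ.app a) E s = t

theorem existsUnique_val {E : EtOver X.obj} [IsAffine E.obj.left.left] (z : sectModEt M E) :
    ∃! t, IsVal φ E z t := by
  obtain ⟨a, -, s, hs'⟩ := exists_upper hP hqc hqs (PEmpty.elim : PEmpty.{u + 1} → P.FullSubcategory) z
  refine ⟨hs (φ.app a) E s, fun b s' hb => ?_, fun t ht => (ht a s hs').symm⟩
  obtain ⟨c, hc, -⟩ := exists_upper hP hqc hqs (fun i : ULift.{u} Bool => if i.down then a else b) z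
  obtain ⟨f⟩ := hc ⟨true⟩
  obtain ⟨g⟩ := hc ⟨false⟩
  have e : hs (Subobject.underlying.map g.hom) E s' = hs (Subobject.underlying.map f.hom) E s := by
    apply hs_injective c.obj.arrow E
    rw [← hs_comp, ← hs_comp, Subobject.underlying_arrow, Subobject.underlying_arrow]
    exact hb.trans hs'.symm
  have hn := fun {x y : P.FullSubcategory} (k : x ⟶ y) => φ.naturality k
  simp only [Functor.comp_map, Functor.const_obj_map] at hn
  have e1 : φ.app b = Subobject.underlying.map g.hom ≫ φ.app c := by
    have h := hn g; erw [Category.comp_id] at h; exact h.symm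
  have e2 : φ.app a = Subobject.underlying.map f.hom ≫ φ.app c := by
    have h := hn f; erw [Category.comp_id] at h; exact h.symm
  rw [e1, e2]
  exact (hs_comp _ _ E s').trans ((congrArg _ e).trans (hs_comp _ _ E s).symm)

/-- The value on an affine object. -/
noncomputable def valAt (E : EtOver X.obj) [IsAffine E.obj.left.left] (z : sectModEt M E) : sectModEt T E :=
  (existsUnique_val hP hqc hqs φ z).choose

theorem valAt_spec {E : EtOver X.obj} [IsAffine E.obj.left.left] (a : P.FullSubcategory)
    (s : sectModEt (Subobject.underlying.obj a.obj) E) :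
    valAt hP hqc hqs φ E (hs a.obj.arrow E s) = hs (φ.app a) E s :=
  ((existsUnique_val hP hqc hqs φ (hs a.obj.arrow E s)).choose_spec.1 a s rfl).symm

theorem rs_valAt {E W : EtOver X.obj} [IsAffine E.obj.left.left] [IsAffine W.obj.left.left] (g : W ⟶ E)
    (z : sectModEt M E) : rs T g (valAt hP hqc hqs φ E z) = valAt hP hqc hqs φ W (rs M g z) := by
  obtain ⟨a, -, s, rfl⟩ := exists_upper hP hqc hqs (PEmpty.elim : PEmpty.{u + 1} → P.FullSubcategory) z
  rw [valAt_spec, ← hs_rs]
  exact (hs_rs (φ.app a) g s).symm.trans (valAt_spec hP hqc hqs φ a _).symm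

theorem valAt_linear {E : EtOver X.obj} [IsAffine E.obj.left.left] (r : gr E) (y z : sectModEt M E) :
    valAt hP hqc hqs φ E (r • y + z) = r • valAt hP hqc hqs φ E y + valAt hP hqc hqs φ E z := by
  obtain ⟨a, -, s, rfl⟩ := exists_upper hP hqc hqs (PEmpty.elim : PEmpty.{u + 1} → P.FullSubcategory) y
  obtain ⟨b, hb, t, rfl⟩ := exists_upper hP hqc hqs (fun _ : PUnit.{u + 1} => a) z
  obtain ⟨f⟩ := hb PUnit.unit
  rw [← Subobject.underlying_arrow f.hom, hs_comp, ← map_smul, ← map_add, valAt_spec, valAt_spec, valAt_spec,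
    map_add, map_smul]

theorem existsUnique_ext {E : EtOver X.obj} (z : sectModEt M E) :
    ∃! t : sectModEt T E, ∀ (W : EtOver X.obj) (g : W ⟶ E) (_ : IsAffine W.obj.left.left),
      rs T g t = valAt hP hqc hqs φ W (rs M g z) := by
  choose V f hV hx _ using fun x : E.obj.left.left => exists_affine_nbhd E ⊤ (x := x) trivial
  have hf : ∀ x : E.obj.left.left, ∃ k, x ∈ Set.range (f k).hom.left.left := fun x => ⟨x, hx x⟩
  obtain ⟨t, ht⟩ := exists_glue_sections (M := T) f hf (fun k => valAt hP hqc hqs φ (V k) (rs M (f k) z))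
    fun i j Z gi gj w => eq_of_forall_affine fun W h hW => by
      rw [← rs_comp, ← rs_comp, rs_valAt, rs_valAt, ← rs_comp, ← rs_comp, Category.assoc, Category.assoc, w]
  have ht' : ∀ (W : EtOver X.obj) (g : W ⟶ E) (hW : IsAffine W.obj.left.left),
      rs T g t = valAt hP hqc hqs φ W (rs M g z) := by
    intro W g hW
    refine eq_of_sieve (GrothendieckTopology.pullback_stable _ g (AlgSp.ofArrows_mem_etTop V f hf)) fun Z h hh => ?_
    obtain ⟨k, α, hα⟩ := Sieve.mem_ofArrows_iff .. |>.1 hh
    refine eq_of_forall_affine fun W' c hW' => ?_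
    have e1 : rs T c (rs T h (rs T g t)) = valAt hP hqc hqs φ W' (rs M c (rs M h (rs M g z))) := by
      rw [← rs_comp g h, hα, rs_comp (f k) α, ht, ← rs_comp α c, rs_valAt, ← rs_comp (f k), ← rs_comp g h,
        ← rs_comp (h ≫ g) c, hα, Category.assoc]
    rw [e1, ← rs_comp h c, ← rs_comp h c, ← rs_valAt]
  exact ⟨t, ht', fun t' ht'' => eq_of_forall_affine fun W g hW => (ht'' W g hW).trans (ht' W g hW).symm⟩

/-- The value on any object. -/
noncomputable def extAt (E : EtOver X.obj) (z : sectModEt M E) : sectModEt T E :=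
  (existsUnique_ext hP hqc hqs φ z).choose

theorem rs_extAt {E W : EtOver X.obj} (g : W ⟶ E) [IsAffine W.obj.left.left] (z : sectModEt M E) :
    rs T g (extAt hP hqc hqs φ E z) = valAt hP hqc hqs φ W (rs M g z) :=
  (existsUnique_ext hP hqc hqs φ z).choose_spec.1 W g inferInstance

theorem extAt_smul {E : EtOver X.obj} (r : gr E) (z : sectModEt M E) :
    extAt hP hqc hqs φ E (r • z) = r • extAt hP hqc hqs φ E z := by
  refine eq_of_forall_affine fun W g hW => ?_
  have := valAt_linear hP hqc hqs φ (E := W) (gm g r) (rs M g z) 0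
  have h0 := valAt_linear hP hqc hqs φ (E := W) 1 0 0
  rw [one_smul, one_smul, add_zero] at h0
  rw [add_zero, add_eq_left.1 h0.symm, add_zero] at this
  rw [rs_extAt, rs_smul, rs_smul, rs_extAt]
  exact this

/-- The extension of a compatible family. -/
noncomputable def extHom : M ⟶ T :=
  ⟨PresheafOfModules.homMk
    { app := fun E => AddCommGrpCat.ofHom
        { toFun := extAt hP hqc hqs φ E.unop
          map_zero' := eq_of_forall_affine fun W g hW => by
            rw [rs_extAt]
            change valAt hP hqc hqs φ W (rs M g (0 : sectModEt M E.unop)) = rs T g (0 : sectModEt T E.unop)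
            have := valAt_linear hP hqc hqs φ (E := W) 1 0 0
            rw [one_smul, one_smul, add_zero] at this
            rw [map_zero, map_zero]
            exact (add_eq_left.1 this.symm)
          map_add' := fun a b => eq_of_forall_affine fun W g hW => by
            have := valAt_linear hP hqc hqs φ (E := W) 1 (rs M g (a : sectModEt M E.unop)) (rs M g b)
            rw [one_smul, one_smul, ← map_add] at this
            change rs T g (extAt hP hqc hqs φ E.unop ((a : sectModEt M E.unop) + b)) =
              rs T g (extAt hP hqc hqs φ E.unop a + extAt hP hqc hqs φ E.unop b)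
            rw [map_add (rs T g), rs_extAt, rs_extAt, rs_extAt]
            exact this }
      naturality := fun E E' g => by
        ext z
        change extAt hP hqc hqs φ E'.unop (rs M g.unop z) = rs T g.unop (extAt hP hqc hqs φ E.unop z)
        refine eq_of_forall_affine fun W h hW => ?_
        rw [rs_extAt, ← rs_comp, ← rs_comp, rs_extAt] }
    (fun E r z => extAt_smul hP hqc hqs φ (E := E.unop) r.down z)⟩

theorem arrow_extHom (a : P.FullSubcategory) : a.obj.arrow ≫ extHom hP hqc hqs φ = φ.app a := by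
  ext E s
  change extAt hP hqc hqs φ E.unop (hs a.obj.arrow E.unop s) = hs (φ.app a) E.unop s
  refine eq_of_forall_affine fun W g hW => ?_
  rw [rs_extAt, ← hs_rs, valAt_spec]
  exact hs_rs (φ.app a) g s

/-- The cocone of subobjects of finite type is a colimit. -/
theorem nonempty_isColimit (ι : P.ι ⋙ Subobject.underlying ⟶ (Functor.const P.FullSubcategory).obj M)
    (hι : ∀ N : P.FullSubcategory, ι.app N = N.obj.arrow) : Nonempty (IsColimit (Cocone.mk M ι)) := by
  refine ⟨{ desc := fun s => extHom hP hqc hqs s.ι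
            fac := fun s a => by
              change ι.app a ≫ _ = _
              rw [hι]
              exact arrow_extHom hP hqc hqs s.ι a
            uniq := fun s m hm => ?_ }⟩
  ext E z
  change hs m E.unop z = extAt hP hqc hqs s.ι E.unop z
  refine eq_of_forall_affine fun W g hW => ?_
  rw [rs_extAt]
  obtain ⟨a, -, t, ht⟩ := exists_upper hP hqc hqs (PEmpty.elim : PEmpty.{u + 1} → P.FullSubcategory) (rs M g z)
  have h := hm a
  change ι.app a ≫ m = _ at h
  rw [hι] at h
  rw [← hs_rs, ← ht, valAt_spec, ← h]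
  exact (hs_comp _ _ W t).symm

end Colim

end Groth.Agent.AlgSpB.SubQC
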