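import Groth.Agent.AlgSpB.SubQC.GenBy

/-!
# Quasi-coherent submodules of finite type containing given sections
-/

universe u

open CategoryTheory CategoryTheory.Limits AlgebraicGeometry Opposite TensorProduct

set_option backward.isDefEq.respectTransparency false
set_option backward.isDefEq.respectTransparency.types false
set_option autoImplicit false
set_option maxHeartbeats 800000

namespace Groth.Agent.AlgSpB.SubQC

open _root_.AlgSp
open Groth.Agent.AlgSpQC

variable {S : Scheme.{u}} {X : Space S} {M : ModEt X.obj}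

theorem mem_of_isEmpty {E : EtOver X.obj} [IsEmpty E.obj.left.left] (N : Submodule (gr E) (sectModEt M E))
    (s : sectModEt M E) : s ∈ N := by
  have : Subsingleton (gr E) := CommRingCat.subsingleton_of_isTerminal
    ((by rw [show (⊤ : E.obj.left.left.Opens) = ⊥ from Subsingleton.elim _ _]
         exact E.obj.left.left.sheaf.isTerminalOfEmpty) : IsTerminal Γ(E.obj.left.left, ⊤))
  rw [← one_smul (gr E) s, Subsingleton.elim (1 : gr E) 0, zero_smul]
  exact N.zero_mem

/-- Two maps to a chart agreeing at a point outside a set where the chart is injective agree nearby. -/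
theorem exists_eq_near {EV : EtOver X.obj} {A : Set (Points X.obj)} (hinj : AlgSpEN.InjOutside EV.obj.hom A)
    {W : EtOver X.obj} (g h : W ⟶ EV) (x : W.obj.left.left) (hx : Points.ofPt W.obj.hom x ∉ A) :
    ∃ (W' : EtOver X.obj) (c : W' ⟶ W), x ∈ Set.range c.hom.left.left ∧ c ≫ g = c ≫ h := by
  obtain ⟨RV, a, b, sqR⟩ := AlgSpB.exists_pullback_yon EV.property.1 EV.obj.hom
  have hgh : (yon S).map g.hom.left ≫ EV.obj.hom = (yon S).map h.hom.left ≫ EV.obj.hom :=
    (CostructuredArrow.w g.hom).trans (CostructuredArrow.w h.hom).symm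
  obtain ⟨l, hl⟩ := (yon S).map_surjective (sqR.lift _ _ hgh)
  have hla : l ≫ a = g.hom.left := (yon S).map_injective (by rw [Functor.map_comp, hl, sqR.lift_fst])
  have hlb : l ≫ b = h.hom.left := (yon S).map_injective (by rw [Functor.map_comp, hl, sqR.lift_snd])
  obtain ⟨δ, hδ⟩ := (yon S).map_surjective (sqR.lift (𝟙 _) (𝟙 _) rfl)
  have hδa : δ ≫ a = 𝟙 EV.obj.left := (yon S).map_injective (by rw [Functor.map_comp, hδ, sqR.lift_fst, CategoryTheory.Functor.map_id])
  have hδb : δ ≫ b = 𝟙 EV.obj.left := (yon S).map_injective (by rw [Functor.map_comp, hδ, sqR.lift_snd, CategoryTheory.Functor.map_id])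
  have : Etale a.left := EV.property.2 _ _ _ sqR.flip
  have : IsOpenImmersion δ.left := by
    have : Etale (δ.left ≫ a.left) := by rw [← Over.comp_left, hδa]; exact inferInstanceAs (Etale (𝟙 _))
    have : Mono (δ.left ≫ a.left) := by rw [← Over.comp_left, hδa]; exact inferInstanceAs (Mono (𝟙 _))
    have : Etale δ.left := Etale.of_comp δ.left a.left
    have : Mono δ.left := mono_of_mono δ.left a.left
    exact IsOpenImmersion.of_flat_of_mono _
  obtain ⟨z', hz'⟩ : l.left x ∈ δ.left.opensRange := by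
    let k : Over.mk (W.obj.left.left.fromSpecResidueField x ≫ W.obj.left.hom) ⟶ W.obj.left :=
      Over.homMk (W.obj.left.left.fromSpecResidueField x) rfl
    have hk : k ≫ g.hom.left = k ≫ h.hom.left := by
      refine hinj _ _ _ (by simp only [Functor.map_comp, Category.assoc, hgh]) fun t ht => hx ?_
      rw [Functor.map_comp, Category.assoc, CostructuredArrow.w g.hom, AlgSpB.ofPt_map_comp] at ht
      change Points.ofPt W.obj.hom (W.obj.left.left.fromSpecResidueField x t) ∈ A at ht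
      rwa [Scheme.fromSpecResidueField_apply] at ht
    have hk' : k ≫ l = k ≫ g.hom.left ≫ δ := (yon S).map_injective <| sqR.hom_ext
      (by rw [← Functor.map_comp, ← Functor.map_comp, Category.assoc, Category.assoc, Category.assoc, hla, hδa,
        Category.comp_id])
      (by rw [← Functor.map_comp, ← Functor.map_comp, Category.assoc, Category.assoc, Category.assoc, hlb, hδb,
        Category.comp_id, hk])
    refine ⟨g.hom.left.left x, ?_⟩
    have := congrArg (fun e : _ ⟶ RV => e.left (IsLocalRing.closedPoint (W.obj.left.left.residueField x))) hk'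
    simp only [k, Over.comp_left, Over.homMk_left, Scheme.Hom.comp_apply] at this
    erw [Scheme.fromSpecResidueField_apply] at this
    exact this.symm
  let O : W.obj.left.left.Opens := l.left ⁻¹ᵁ δ.left.opensRange
  let W₀ : Over S := Over.mk (Scheme.Opens.ι O ≫ W.obj.left.hom)
  let c₀ : W₀ ⟶ W.obj.left := Over.homMk (Scheme.Opens.ι O) rfl
  let W' : EtOver X.obj := EtOver.mk ((yon S).map c₀ ≫ W.obj.hom)
    ((RepWith _).comp_mem _ _ ((repWith_yon_map_iff _ c₀).2 (inferInstanceAs (Etale (Scheme.Opens.ι O)))) W.property)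
  refine ⟨W', EtOver.homMk c₀ rfl, ⟨⟨x, ⟨z', hz'⟩⟩, rfl⟩, EtOver.hom_ext _ _ ?_⟩
  change c₀ ≫ g.hom.left = c₀ ≫ h.hom.left
  let m₁ : W₀.left ⟶ EV.obj.left.left := IsOpenImmersion.lift δ.left (c₀.left ≫ l.left) (by
    rintro _ ⟨y, rfl⟩
    exact (show (Scheme.Opens.ι O y) ∈ O from y.2))
  have hm₁ : m₁ ≫ δ.left = c₀.left ≫ l.left := IsOpenImmersion.lift_fac _ _ _
  have hga : c₀.left ≫ g.hom.left.left = m₁ := by
    rw [← hla, Over.comp_left, ← Category.assoc, ← hm₁, Category.assoc, ← Over.comp_left, hδa]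
    exact Category.comp_id _
  have hgb : c₀.left ≫ h.hom.left.left = m₁ := by
    rw [← hlb, Over.comp_left, ← Category.assoc, ← hm₁, Category.assoc, ← Over.comp_left, hδb]
    exact Category.comp_id _
  exact Over.OverMorphism.ext (hga.trans hgb.symm)

/-- An object lies over a set of points. -/
def InA (A : Set (Points X.obj)) (E : EtOver X.obj) : Prop := ∀ w, Points.ofPt E.obj.hom w ∈ A

theorem InA.of_hom {A : Set (Points X.obj)} {E W : EtOver X.obj} (g : W ⟶ E) (h : InA A E) : InA A W := fun w => by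
  rw [← CostructuredArrow.w g.hom, AlgSpB.ofPt_map_comp]
  exact h _

/-- An affine open object inside an open subset. -/
theorem exists_affine_nbhd (E : EtOver X.obj) (O : E.obj.left.left.Opens) {x : E.obj.left.left} (hx : x ∈ O) :
    ∃ (W : EtOver X.obj) (f : W ⟶ E), IsAffine W.obj.left.left ∧ x ∈ Set.range f.hom.left.left ∧
      Set.range f.hom.left.left ⊆ O ∧ IsOpenImmersion f.hom.left.left := by
  obtain ⟨_, ⟨Q, hQ : IsAffineOpen Q, rfl⟩, hmem, hle⟩ :=
    E.obj.left.left.isBasis_affineOpens.exists_subset_of_mem_open (show x ∈ (O : Set _) from hx) O.2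
  let W₀ : Over S := Over.mk (Scheme.Opens.ι Q ≫ E.obj.left.hom)
  let c₀ : W₀ ⟶ E.obj.left := Over.homMk (Scheme.Opens.ι Q) rfl
  let W : EtOver X.obj := EtOver.mk ((yon S).map c₀ ≫ E.obj.hom)
    ((RepWith _).comp_mem _ _ ((repWith_yon_map_iff _ c₀).2 (inferInstanceAs (Etale (Scheme.Opens.ι Q)))) E.property)
  refine ⟨W, EtOver.homMk c₀ rfl, hQ, ⟨⟨x, hmem⟩, rfl⟩, ?_, ?_⟩
  · rintro _ ⟨y, rfl⟩
    exact hle (show (Scheme.Opens.ι Q y) ∈ Q from y.2)
  · exact inferInstanceAs (IsOpenImmersion (Scheme.Opens.ι Q))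

theorem fg_carrier_of_cover [M.IsQuasicoherent] {P : LocalSub M} (hP : Gen P) (E : EtOver X.obj)
    [IsAffine E.obj.left.left] (h : ∀ x : E.obj.left.left, ∃ (W : EtOver X.obj) (f : W ⟶ E),
      IsAffine W.obj.left.left ∧ x ∈ Set.range f.hom.left.left ∧ (P.carrier W).FG) : (P.carrier E).FG := by
  have := isQuasicoherent_of_gen hP
  choose W f hW hx hfg using h
  obtain ⟨s, hs⟩ := isCompact_univ.elim_finite_subcover (fun x => Set.range (f x).hom.left.left)
    (fun x => by have := EtOver.etale_left (f x); exact (f x).hom.left.left.isOpenMap.isOpen_range)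
    (fun x _ => Set.mem_iUnion.2 ⟨x, hx x⟩)
  have hr : ∀ E, LinearMap.range (P.incl E) = P.carrier E := fun E => by
    ext z; exact ⟨by rintro ⟨t, rfl⟩; exact t.2, fun hz => ⟨⟨z, hz⟩, rfl⟩⟩
  have hfin : ∀ x, Module.Finite (gr (W x)) (sectModEt P.mod (W x)) := fun x => by
    have : Module.Finite (gr (W x)) (LinearMap.range (P.incl (W x))) := Module.Finite.iff_fg.2 ((hr _).symm ▸ hfg x)
    exact Module.Finite.equiv (LinearEquiv.ofInjective _ (incl_injective P (W x))).symm
  have := finite_of_cover (M := P.mod) (κ := {x // x ∈ s}) (fun k => f k.1) (fun k => hW k.1) (fun y => by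
    obtain ⟨k, hk, hy⟩ := Set.mem_iUnion₂.1 (hs (Set.mem_univ y))
    exact ⟨⟨k, hk⟩, hy⟩) (fun k => hfin k.1)
  rw [← hr E]
  exact Module.Finite.iff_fg.1 inferInstance

/-- The inductive step. -/
theorem approx_step [QuasiSeparatedSpace ↥S] [M.IsQuasicoherent] (hqs : IsQuasiSeparatedSp X.obj)
    {A : Set (Points X.obj)} (hA : IsOpen A) (hAc : IsCompact A) (hp : ∃ (U : Over S) (p : (yon S).obj U ⟶ X.obj),
      IsAffine U.left ∧ RepWith @Etale p ∧ Function.Surjective (Points.ofPt p))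
    {EV : EtOver X.obj} [IsAffine EV.obj.left.left] (hinj : AlgSpEN.InjOutside EV.obj.hom A)
    {J : LocalSub M} (hJ : Gen J) (hfg : ∀ E, IsAffine E.obj.left.left → InA A E → (J.carrier E).FG)
    {κ : Type u} [Finite κ] (EK : κ → EtOver X.obj) (hEK : ∀ i, IsAffine (EK i).obj.left.left)
    (m : ∀ i, sectModEt M (EK i)) (hm : ∀ i, m i ∈ J.carrier (EK i)) :
    ∃ J' : LocalSub M, Gen J' ∧ (∀ E, J'.carrier E ≤ J.carrier E) ∧
      (∀ E, IsAffine E.obj.left.left → InA (A ∪ Set.range (Points.ofPt EV.obj.hom)) E → (J'.carrier E).FG) ∧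
      ∀ i, m i ∈ J'.carrier (EK i) := by
  classical
  -- the part of the chart over `A`
  obtain ⟨U, p, hU, hpe, hps⟩ := hp
  obtain ⟨P, π₁, π₂, sqP⟩ := AlgSpB.exists_pullback_yon hpe.1 EV.obj.hom
  have : QuasiCompact π₁.left :=
    (AlgSpEN.repWith_quasiCompact_chart X hqs EV.obj.hom).2 _ _ _ sqP.flip
  let AV : EV.obj.left.left.Opens := ⟨Points.ofPt EV.obj.hom ⁻¹' A, hA.preimage (Points.continuous_ofPt _)⟩
  have hAV : IsCompact (AV : Set EV.obj.left.left) := by
    obtain ⟨O, hO⟩ := hAc.elim_finite_subcover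
      (fun O : {O : U.left.affineOpens // (O.1 : Set U.left) ⊆ Points.ofPt p ⁻¹' A} => Points.ofPt p '' (O.1.1 : Set U.left))
      (fun O => AlgSpB.isOpenMap_ofPt hpe _ O.1.1.isOpen) (fun x hx => by
        obtain ⟨y, rfl⟩ := hps x
        obtain ⟨O, hO, hy, hle⟩ := exists_isAffineOpen_mem_and_subset (x := y)
          (U := ⟨Points.ofPt p ⁻¹' A, hA.preimage (Points.continuous_ofPt p)⟩) hx
        exact Set.mem_iUnion.2 ⟨⟨⟨O, hO⟩, hle⟩, y, hy, rfl⟩)
    have e : (AV : Set EV.obj.left.left) = ⋃ O' ∈ O, π₂.left '' (π₁.left ⁻¹' (O'.1.1 : Set U.left)) := by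
      have : A = ⋃ O' ∈ O, Points.ofPt p '' (O'.1.1 : Set U.left) :=
        hO.antisymm (Set.iUnion₂_subset fun O' _ => Set.image_subset_iff.2 O'.2)
      change Points.ofPt EV.obj.hom ⁻¹' A = _
      conv_lhs => rw [this]
      simp only [Set.preimage_iUnion, AlgSpB.preimage_range_ofPt sqP]
    rw [e]
    exact O.isCompact_biUnion fun O' _ => (π₁.left.isCompact_preimage O'.1.2.isCompact).image π₂.left.continuous
  choose O o hO hox hoA hoi using fun x : AV => exists_affine_nbhd EV AV x.2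
  have hoo : ∀ x : AV, IsOpen (Set.range (o x).hom.left.left) := fun x =>
    have := hoi x; (o x).hom.left.left.isOpenEmbedding.isOpen_range
  obtain ⟨s, hs⟩ := hAV.elim_finite_subcover (fun x => Set.range (o x).hom.left.left) hoo
    (fun x hx => Set.mem_iUnion.2 ⟨⟨x, hx⟩, hox ⟨x, hx⟩⟩)
  -- finitely many sections of `J` on the chart
  have hL₁ : ∀ x : AV, ∃ L : Finset (sectModEt M EV), (∀ l ∈ L, l ∈ J.carrier EV) ∧
      J.carrier (O x) ≤ Submodule.span (gr (O x)) (rs M (o x) '' (L : Set (sectModEt M EV))) := by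
    intro x
    obtain ⟨G, hG⟩ := hfg (O x) (hO x) fun w => by
      rw [← CostructuredArrow.w (o x).hom, AlgSpB.ofPt_map_comp]
      exact hoA x ⟨w, rfl⟩
    choose T hT hT' using fun z : G => Submodule.mem_span_finite_of_mem_span
      (hJ (o x) (by infer_instance) (hO x) z.1 (hG.le (Submodule.subset_span z.2)))
    have hT'' : ∀ z, ∀ t ∈ T z, ∃ l ∈ J.carrier EV, rs M (o x) l = t := fun z t ht => hT z ht
    choose pre hpre hpre' using hT''
    refine ⟨Finset.univ.biUnion fun z : G => (T z).attach.image fun t => pre z t.1 t.2, ?_, ?_⟩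
    · intro l hl
      obtain ⟨z, -, hz⟩ := Finset.mem_biUnion.1 hl
      obtain ⟨t, -, rfl⟩ := Finset.mem_image.1 hz
      exact hpre z t.1 t.2
    · rw [← hG, Submodule.span_le]
      intro z hz
      refine Submodule.span_mono ?_ (hT' ⟨z, hz⟩)
      intro t ht
      exact ⟨pre ⟨z, hz⟩ t ht, Finset.mem_biUnion.2 ⟨⟨z, hz⟩, Finset.mem_univ _,
        Finset.mem_image.2 ⟨⟨t, ht⟩, Finset.mem_attach _ _, rfl⟩⟩, hpre' _ t ht⟩
  choose L₁ hL₁J hL₁span using hL₁
  -- finitely many sections generating the given ones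
  choose κ' hκ' Q qa qb hQ hQs hQu using fun i => (have := hEK i; exists_meet X hqs (EK i) EV)
  have hL₂ : ∀ ik : Σ i, κ' i, ∃ T : Finset (sectModEt M EV), (∀ l ∈ T, l ∈ J.carrier EV) ∧
      rs M (qa ik.1 ik.2) (m ik.1) ∈ Submodule.span (gr (Q ik.1 ik.2)) (rs M (qb ik.1 ik.2) '' (T : Set (sectModEt M EV))) := by
    intro ik
    obtain ⟨T, hT, hT'⟩ := Submodule.mem_span_finite_of_mem_span
      (hJ (qb ik.1 ik.2) (by infer_instance) (hQ _ _) _ (J.res_mem (qa ik.1 ik.2) (hm ik.1)))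
    have hT'' : ∀ t ∈ T, ∃ l ∈ J.carrier EV, rs M (qb ik.1 ik.2) l = t := fun t ht => hT ht
    choose pre hpre hpre' using hT''
    refine ⟨T.attach.image fun t => pre t.1 t.2, fun l hl => ?_, Submodule.span_mono ?_ hT'⟩
    · obtain ⟨t, -, rfl⟩ := Finset.mem_image.1 hl
      exact hpre t.1 t.2
    · intro t ht
      exact ⟨pre t ht, Finset.mem_image.2 ⟨⟨t, ht⟩, Finset.mem_attach _ _, rfl⟩, hpre' t ht⟩
  choose L₂ hL₂J hL₂span using hL₂
  cases nonempty_fintype κ
  have := fun i => @Fintype.ofFinite _ (hκ' i)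
  let L : Set (sectModEt M EV) := ((s.biUnion L₁ ∪ Finset.univ.biUnion L₂ : Finset _) : Set (sectModEt M EV))
  have hLJ : ∀ l ∈ L, l ∈ J.carrier EV := fun l hl => by
    rcases Finset.mem_union.1 hl with h | h
    · obtain ⟨x, -, hx⟩ := Finset.mem_biUnion.1 h
      exact hL₁J x l hx
    · obtain ⟨x, -, hx⟩ := Finset.mem_biUnion.1 h
      exact hL₂J x l hx
  -- over `A` these generate `J`
  have hover : ∀ (W : EtOver X.obj) (h : W ⟶ EV), IsAffine W.obj.left.left → ∀ x : W.obj.left.left,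
      Points.ofPt W.obj.hom x ∈ A → ∀ z ∈ J.carrier W, ∃ (W' : EtOver X.obj) (f : W' ⟶ W),
        x ∈ Set.range f.hom.left.left ∧ rs M f z ∈ Submodule.span (gr W') (rs M (f ≫ h) '' L) := by
    intro W h hW x hx z hz
    rw [← CostructuredArrow.w h.hom, AlgSpB.ofPt_map_comp] at hx
    obtain ⟨i, hi, hxi⟩ := Set.mem_iUnion₂.1 (hs (show h.hom.left.left x ∈ (AV : Set _) from hx))
    obtain ⟨y, hy⟩ := hxi
    let Q₀ : W.obj.left.left.Opens := ⟨h.hom.left.left ⁻¹' Set.range (o i).hom.left.left, (hoo i).preimage h.hom.left.left.continuous⟩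
    obtain ⟨W', f, hW', hxf, hfQ, -⟩ := exists_affine_nbhd W Q₀ (x := x) ⟨y, hy⟩
    have := hoi i
    let d₁ : W'.obj.left.left ⟶ (O i).obj.left.left :=
      IsOpenImmersion.lift (o i).hom.left.left (f.hom.left.left ≫ h.hom.left.left) (by
        rintro _ ⟨t, rfl⟩
        exact hfQ ⟨t, rfl⟩)
    have hd₁ : d₁ ≫ (o i).hom.left.left = f.hom.left.left ≫ h.hom.left.left := IsOpenImmersion.lift_fac _ _ _
    let d₀ : W'.obj.left ⟶ (O i).obj.left := Over.homMk d₁ (by
      rw [← Over.w (o i).hom.left, ← Category.assoc, hd₁, Category.assoc, Over.w h.hom.left, Over.w f.hom.left])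
    have hd₀ : d₀ ≫ (o i).hom.left = f.hom.left ≫ h.hom.left := Over.OverMorphism.ext hd₁
    let d : W' ⟶ O i := EtOver.homMk d₀ (by
      rw [← CostructuredArrow.w (o i).hom, ← Functor.map_comp_assoc, hd₀, Functor.map_comp, Category.assoc,
        CostructuredArrow.w h.hom, CostructuredArrow.w f.hom])
    have hd : d ≫ o i = f ≫ h := EtOver.hom_ext _ _ hd₀
    refine ⟨W', f, hxf, ?_⟩
    rw [← hd]
    refine Submodule.span_le.2 ?_ (hJ d (hO i) hW' (rs M f z) (J.res_mem f hz))
    rintro _ ⟨t, ht, rfl⟩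
    refine Submodule.span_mono ?_ (rs_mem_span (o i) d (hL₁span i ht))
    exact Set.image_mono fun l hl => Finset.mem_union.2 (Or.inl (Finset.mem_biUnion.2 ⟨i, hi, hl⟩))
  refine ⟨genBy J L, gen_genBy J L hqs hJ, genBy_le J L, ?_, ?_⟩
  · intro E hE hEA
    have hG : Gen (genBy J L) := gen_genBy J L hqs hJ
    refine fg_carrier_of_cover hG E fun x => ?_
    by_cases hx : Points.ofPt E.obj.hom x ∈ A
    · obtain ⟨W, f, hW, hxf, hfA, -⟩ := exists_affine_nbhd E
        ⟨Points.ofPt E.obj.hom ⁻¹' A, hA.preimage (Points.continuous_ofPt _)⟩ (x := x) hx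
      have hWA : InA A W := fun w => by
        rw [← CostructuredArrow.w f.hom, AlgSpB.ofPt_map_comp]
        exact hfA ⟨w, rfl⟩
      refine ⟨W, f, hW, hxf, ?_⟩
      convert hfg W hW hWA using 1
      refine le_antisymm (genBy_le J L W) fun z hz => ⟨hz, fun W' g h hW' => mem_of_point _ fun y => ?_⟩
      obtain ⟨W'', c, hy, hc⟩ := hover W' h hW' y ((InA.of_hom g hWA) y) (rs M g z) (J.res_mem g hz)
      refine ⟨W'', c, hy, Submodule.span_mono ?_ hc⟩
      rintro _ ⟨l, hl, rfl⟩
      exact ⟨rs M h l, Submodule.subset_span ⟨l, hl, rfl⟩, (rs_comp h c l).symm⟩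
    · rcases hEA x with h' | ⟨y, hy⟩
      · exact absurd h' hx
      obtain ⟨κ₀, _, P₀, pa, pb, hP₀, hP₀s, -⟩ := exists_meet X hqs E EV
      obtain ⟨k, hk⟩ := hP₀s x y hy.symm
      refine ⟨P₀ k, pa k, hP₀ k, hk, ?_⟩
      suffices e : (genBy J L).carrier (P₀ k) = Submodule.span (gr (P₀ k)) (rs M (pb k) '' L) by
        rw [e]
        exact Submodule.fg_span ((s.biUnion L₁ ∪ Finset.univ.biUnion L₂).finite_toSet.image _)
      refine le_antisymm (fun z hz => ?_) (Submodule.span_le.2 ?_)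
      · have := hz.2 (P₀ k) (𝟙 _) (pb k) (hP₀ k)
        rwa [rs_id] at this
      · rintro _ ⟨l, hl, rfl⟩
        refine ⟨J.res_mem _ (hLJ l hl), fun W' g h hW' => mem_of_point _ fun z => ?_⟩
        by_cases hz : Points.ofPt W'.obj.hom z ∈ A
        · obtain ⟨W'', c, hy', hc⟩ := hover W' h hW' z hz _ (J.res_mem g (J.res_mem (pb k) (hLJ l hl)))
          refine ⟨W'', c, hy', Submodule.span_mono ?_ hc⟩
          rintro _ ⟨l', hl', rfl⟩
          exact ⟨rs M h l', Submodule.subset_span ⟨l', hl', rfl⟩, (rs_comp h c l').symm⟩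
        · obtain ⟨W'', c, hy', hc⟩ := exists_eq_near hinj (g ≫ pb k) h z hz
          refine ⟨W'', c, hy', Submodule.subset_span ⟨rs M h l, Submodule.subset_span ⟨l, hl, rfl⟩, ?_⟩⟩
          rw [← rs_comp, ← rs_comp, ← rs_comp, ← hc]
          rw [Category.assoc]
  · intro i
    refine mem_genBy_of_family J L (qa i) (qb i) (hQu i) (hm i) fun k => Submodule.span_mono ?_ (hL₂span ⟨i, k⟩)
    refine Set.image_mono fun l hl => Finset.mem_union.2 (Or.inr ?_)
    exact Finset.mem_biUnion.2 ⟨⟨i, k⟩, Finset.mem_univ _, hl⟩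

/-- A quasi-coherent family of submodules contains families of finite type through any finite set of sections. -/
theorem exists_fg_le [QuasiSeparatedSpace ↥S] [M.IsQuasicoherent] (hqc : IsQuasiCompactSp X.obj)
    (hqs : IsQuasiSeparatedSp X.obj) {J₀ : LocalSub M} (hJ₀ : Gen J₀)
    {κ : Type u} [Finite κ] (EK : κ → EtOver X.obj) (hEK : ∀ i, IsAffine (EK i).obj.left.left)
    (m : ∀ i, sectModEt M (EK i)) (hm : ∀ i, m i ∈ J₀.carrier (EK i)) :
    ∃ J : LocalSub M, Gen J ∧ (∀ E, J.carrier E ≤ J₀.carrier E) ∧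
      (∀ E, IsAffine E.obj.left.left → (J.carrier E).FG) ∧ ∀ i, m i ∈ J.carrier (EK i) := by
  let Q : Set (Points X.obj) → Prop := fun A =>
    ∃ J : LocalSub M, Gen J ∧ (∀ E, J.carrier E ≤ J₀.carrier E) ∧
      (∀ E, IsAffine E.obj.left.left → InA A E → (J.carrier E).FG) ∧ ∀ i, m i ∈ J.carrier (EK i)
  have hp : ∃ (U : Over S) (p : (yon S).obj U ⟶ X.obj),
      IsAffine U.left ∧ RepWith @Etale p ∧ Function.Surjective (Points.ofPt p) := by
    obtain ⟨U, p, hU, hp, hps⟩ := AlgSpEN.exists_affine_atlas X hqc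
    exact ⟨U, p, hU, hp, AlgSpB.surjective_ofPt hps⟩
  have hQ : Q Set.univ := by
    refine AlgSpEN.openInduction X hqc hqs ∅ isOpen_empty isCompact_empty Q ⟨J₀, hJ₀, fun E => le_rfl,
      fun E hE hA => ?_, hm⟩ ?_
    · have : IsEmpty E.obj.left.left := ⟨fun w => hA w⟩
      exact ⟨∅, le_antisymm (Submodule.span_le.2 (by simp)) fun z _ => mem_of_isEmpty _ z⟩
    · intro A V f hAo hAc _ hV hf hinj hQA
      obtain ⟨J, h1, h2, h3, h4⟩ := hQA
      have : IsAffine (EtOver.mk f hf).obj.left.left := hV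
      obtain ⟨J', g1, g2, g3, g4⟩ := approx_step hqs hAo hAc hp (EV := EtOver.mk f hf) hinj h1 h3 EK hEK m h4
      exact ⟨J', g1, fun E => (g2 E).trans (h2 E), g3, g4⟩
  obtain ⟨J, h1, h2, h3, h4⟩ := hQ
  exact ⟨J, h1, h2, fun E hE => h3 E hE fun _ => trivial, h4⟩

end Groth.Agent.AlgSpB.SubQC
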