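import Groth.Agent.AlgSpB.SubQC.GenBy

/-!
# Local submodules cut out by finitely many conditions on affine objects
-/

universe u

open CategoryTheory CategoryTheory.Limits AlgebraicGeometry Opposite TensorProduct

set_option backward.isDefEq.respectTransparency false
set_option backward.isDefEq.respectTransparency.types false
set_option autoImplicit false
set_option maxHeartbeats 800000

namespace Groth.Agent.AlgSpB.SubQC

open _root_.AlgSp
open Groth.Agent.AlgSpQC

variable {S : Scheme.{u}} {X : Space S} {M : ModEt X.obj}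

theorem gen_of_finite_conditions [M.IsQuasicoherent] {J P' : LocalSub M} (hJ : Gen J)
    (hle : ∀ E, P'.carrier E ≤ J.carrier E)
    (h : ∀ E : EtOver X.obj, IsAffine E.obj.left.left →
      ∃ (κ : Type u) (_ : Finite κ) (P : κ → EtOver X.obj) (a : ∀ k, P k ⟶ E)
        (N : ∀ k, Submodule (gr (P k)) (sectModEt M (P k))), (∀ k, IsAffine (P k).obj.left.left) ∧
        (∀ s, s ∈ P'.carrier E ↔ s ∈ J.carrier E ∧ ∀ k, rs M (a k) s ∈ N k) ∧
        ∀ (k : κ) {W Q : EtOver X.obj} (g : W ⟶ E), IsAffine W.obj.left.left → IsAffine Q.obj.left.left →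
          ∀ (c : Q ⟶ W) (d : Q ⟶ P k), c ≫ g = d ≫ a k → ∀ l ∈ P'.carrier W,
            rs M c l ∈ Submodule.span (gr Q) (rs M d '' (N k : Set (sectModEt M (P k))))) : Gen P' := by
  intro E W g hE hW l hl
  obtain ⟨κ, _, P, a, N₀, hP, hiff, hsq⟩ := h E hE
  choose Q c d hQ hcd hpush _ using fun k => (have := hP k; exists_overlap g (a k))
  let _ := (gm g).toAlgebra
  have : Module.Flat (gr E) (gr W) := flat_gm g
  let _ := fun k => overBase M (a k)
  choose Φ hΦ hΦt using fun k =>
    (have := hP k; have := hQ k; exists_bc_square (pres_id M (P k)) g (a k) (c k) (d k) (hcd k) (hpush k))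
  let A : ∀ k, sectModEt M E →ₗ[gr E] sectModEt M (P k) := fun k =>
    { toFun := rs M (a k)
      map_add' := map_add _
      map_smul' := fun r m => rs_smul (a k) r m }
  let N : ∀ k, Submodule (gr E) (sectModEt M (P k)) := fun k =>
    { carrier := (N₀ k : Set (sectModEt M (P k)))
      add_mem' := fun ha hb => add_mem ha hb
      zero_mem' := Submodule.zero_mem _
      smul_mem' := fun r _ hx => Submodule.smul_mem _ (gm (a k) r) hx }
  let δ : J.carrier E →ₗ[gr E] ∀ k, sectModEt M (P k) ⧸ N k :=
    LinearMap.pi fun k => ((N k).mkQ.comp (A k)).comp (J.carrier E).subtype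
  -- lift `l` to the tensor product
  obtain ⟨y, hy⟩ : ∃ y : gr W ⊗[gr E] J.carrier E,
      bc (rs M g) (rs_smul g) (LinearMap.lTensor (gr W) (J.carrier E).subtype y) = l := by
    suffices ∀ x ∈ Submodule.span (gr W) (rs M g '' (J.carrier E : Set (sectModEt M E))),
        ∃ y : gr W ⊗[gr E] J.carrier E, bc (rs M g) (rs_smul g) (LinearMap.lTensor (gr W) (J.carrier E).subtype y) = x
      from this l (hJ g hE hW l (hle W hl))
    intro x h
    induction h using Submodule.span_induction with
    | mem x hx =>
      obtain ⟨z, hz, rfl⟩ := hx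
      exact ⟨1 ⊗ₜ ⟨z, hz⟩, one_smul _ _⟩
    | zero => exact ⟨0, by simp only [map_zero]⟩
    | add x y _ _ hx hy =>
      obtain ⟨u, hu⟩ := hx
      obtain ⟨v, hv⟩ := hy
      exact ⟨u + v, by simp only [map_add, hu, hv]⟩
    | smul r x _ hx =>
      obtain ⟨u, hu⟩ := hx
      refine ⟨r • u, ?_⟩
      rw [← hu]
      clear hu
      induction u using TensorProduct.induction_on with
      | zero => simp only [smul_zero, map_zero]
      | add u v hu hv => simp only [smul_add, map_add] at *; exact congrArg₂ _ hu hv
      | tmul u m =>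
        change (r * u) • rs M g m.1 = r • u • rs M g m.1
        rw [mul_smul]
  -- it lies in the kernel
  have hk : ∀ k, LinearMap.lTensor (gr W) (N k).mkQ
      (LinearMap.lTensor (gr W) ((A k).comp (J.carrier E).subtype) y) = 0 := by
    intro k
    let z := LinearMap.lTensor (gr W) ((A k).comp (J.carrier E).subtype) y
    have e : Φ k z = rs M (c k) l := by
      rw [← hy]
      have : ∀ y, Φ k (LinearMap.lTensor (gr W) ((A k).comp (J.carrier E).subtype) y) =
          rs M (c k) (bc (rs M g) (rs_smul g) (LinearMap.lTensor (gr W) (J.carrier E).subtype y)) := by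
        intro y
        induction y using TensorProduct.induction_on with
        | zero => simp only [map_zero]
        | add u v hu hv => simp only [map_add, hu, hv]
        | tmul u m =>
          change Φ k (u ⊗ₜ rs M (a k) m.1) = rs M (c k) (u • rs M g m.1)
          rw [hΦt, rs_smul, ← rs_comp, ← rs_comp, hcd]
      exact this y
    have hmem : rs M (c k) l ∈ Submodule.span (gr (Q k)) (rs M (d k) '' (N₀ k : Set (sectModEt M (P k)))) :=
      hsq k g hW (hQ k) (c k) (d k) (hcd k) l hl
    -- the image of `N k` is stable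
    let H : AddSubgroup (sectModEt M (Q k)) :=
      AddMonoidHom.range ((Φ k).comp (LinearMap.lTensor (gr W) (N k).subtype).toAddMonoidHom)
    have hHmem : ∀ w, Φ k (LinearMap.lTensor (gr W) (N k).subtype w) ∈ H := fun w => ⟨w, rfl⟩
    have hH : ∀ x ∈ Submodule.span (gr (Q k)) (rs M (d k) '' (N₀ k : Set (sectModEt M (P k)))),
        ∀ q : gr (Q k), q • x ∈ H := by
      intro x hx
      induction hx using Submodule.span_induction with
      | mem x hx =>
        obtain ⟨m, hm, rfl⟩ := hx
        refine pushout_span g (a k) (c k) (d k) (hpush k)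
          (H.comap ((smulAddHom (gr (Q k)) (sectModEt M (Q k))).flip (rs M (d k) m))) fun u v => ?_
        change (gm (c k) u * gm (d k) v) • rs M (d k) m ∈ H
        have h1 := hHmem (u ⊗ₜ ⟨v • m, Submodule.smul_mem _ v hm⟩)
        rw [LinearMap.lTensor_tmul, hΦt] at h1
        change gm (c k) u • rs M (d k) (v • m) ∈ H at h1
        rwa [rs_smul, smul_smul] at h1
      | zero => intro q; rw [smul_zero]; exact H.zero_mem
      | add x y _ _ hx hy => intro q; rw [smul_add]; exact H.add_mem (hx q) (hy q)
      | smul r x _ hx => intro q; rw [smul_smul]; exact hx _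
    obtain ⟨w, hw⟩ := (one_smul (gr (Q k)) (rs M (c k) l)) ▸ hH _ hmem 1
    have : z = LinearMap.lTensor (gr W) (N k).subtype w := (hΦ k).1 (e.trans hw.symm)
    change LinearMap.lTensor (gr W) (N k).mkQ z = 0
    rw [this, ← LinearMap.comp_apply, ← LinearMap.lTensor_comp,
      show (N k).mkQ.comp (N k).subtype = 0 from LinearMap.ext fun x => (Submodule.Quotient.mk_eq_zero _).2 x.2,
      LinearMap.lTensor_zero, LinearMap.zero_apply]
  have hy0 : LinearMap.lTensor (gr W) δ y = 0 := by
    classical
    have := Fintype.ofFinite κ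
    refine (TensorProduct.piRight (gr E) (gr E) (gr W) fun k => sectModEt M (P k) ⧸ N k).injective ?_
    rw [map_zero]
    funext k
    have : ∀ y, (TensorProduct.piRight (gr E) (gr E) (gr W) fun k => sectModEt M (P k) ⧸ N k)
        (LinearMap.lTensor (gr W) δ y) k = LinearMap.lTensor (gr W) (N k).mkQ
          (LinearMap.lTensor (gr W) ((A k).comp (J.carrier E).subtype) y) := by
      intro y
      induction y using TensorProduct.induction_on with
      | zero => simp
      | add u v hu hv => simp only [map_add, Pi.add_apply, hu, hv]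
      | tmul u m => rfl
    exact (this y).trans (hk k)
  obtain ⟨x, hx⟩ := (Module.Flat.lTensor_exact (gr W) (LinearMap.exact_subtype_ker_map δ) y).1 hy0
  subst hx
  rw [← hy]
  clear hy hy0 hk hl
  induction x using TensorProduct.induction_on with
  | zero => simp only [map_zero]; exact Submodule.zero_mem _
  | add u v hu hv => simp only [map_add]; exact Submodule.add_mem _ hu hv
  | tmul u m =>
    change u • rs M g m.1.1 ∈ _
    refine Submodule.smul_mem _ u (Submodule.subset_span ⟨m.1.1, ?_, rfl⟩)
    refine (hiff m.1.1).2 ⟨m.1.2, fun k => ?_⟩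
    exact (Submodule.Quotient.mk_eq_zero _).1 (congrFun (LinearMap.mem_ker.1 m.2) k)

end Groth.Agent.AlgSpB.SubQC
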