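import Groth.Agent.AlgSpB.SubQC.OpenRes
import Groth.Agent.AlgSpB.SubQC.GenCond

/-!
# Extension of submodules of finite type from an open subspace
-/

universe u

open CategoryTheory CategoryTheory.Limits AlgebraicGeometry Opposite

set_option backward.isDefEq.respectTransparency false
set_option backward.isDefEq.respectTransparency.types false
set_option autoImplicit false
set_option maxHeartbeats 800000

namespace Groth.Agent.AlgSpB.SubQC

open _root_.AlgSp
open Groth.Agent.AlgSpQC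

variable {S : Scheme.{u}} {U X : Space S} {j : U ⟶ X} (hj : RepWith @IsOpenImmersion j.hom)

theorem exists_lift_obj {W : EtOver U.obj} {V : EtOver X.obj} (c : V ⟶ (post hj).obj W) :
    ∃ (W' : EtOver U.obj) (c' : W' ⟶ W) (ι : (post hj).obj W' ⟶ V) (ι' : V ⟶ (post hj).obj W'),
      (post hj).map c' = ι ≫ c ∧ ι' ≫ ι = 𝟙 V ∧ ι ≫ ι' = 𝟙 _ ∧ W'.obj.left = V.obj.left := by
  have : Etale c.hom.left.left := EtOver.etale_left c
  let W' : EtOver U.obj := EtOver.mk ((yon S).map c.hom.left ≫ W.obj.hom)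
    ((RepWith _).comp_mem _ _ ((repWith_yon_map_iff _ _).2 ‹_›) W.property)
  have hw : ((yon S).map c.hom.left ≫ W.obj.hom) ≫ j.hom = V.obj.hom := by
    rw [Category.assoc]; exact EtOver.w c
  refine ⟨W', EtOver.homMk c.hom.left rfl, EtOver.homMk (𝟙 _) ?_, EtOver.homMk (𝟙 _) ?_, ?_, ?_, ?_, rfl⟩
  · exact ((congrArg (· ≫ V.obj.hom) ((yon S).map_id _)).trans (Category.id_comp _)).trans hw.symm
  · exact ((congrArg (· ≫ _) ((yon S).map_id _)).trans (Category.id_comp _)).trans hw
  · exact EtOver.hom_ext _ _ (Category.id_comp _).symm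
  · exact EtOver.hom_ext _ _ (Category.id_comp _)
  · exact EtOver.hom_ext _ _ (Category.id_comp _)

theorem exists_map_eq {W' W : EtOver U.obj} (h : (post hj).obj W' ⟶ (post hj).obj W) :
    ∃ k : W' ⟶ W, (post hj).map k = h := by
  have := Groth.Agent.AlgSpB.mono_of_isOpenImmersion hj
  refine ⟨EtOver.homMk h.hom.left ((cancel_mono j.hom).1 ?_), EtOver.hom_ext _ _ rfl⟩
  rw [Category.assoc]
  exact EtOver.w h

theorem exists_atlas_obj (hU : IsQuasiCompactSp U.obj) :
    ∃ E₀ : EtOver U.obj, IsAffine E₀.obj.left.left ∧ ∀ x : Points U.obj, ∃ u, Points.ofPt E₀.obj.hom u = x := by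
  obtain ⟨U₀, p, hU₀, hp, hps⟩ := AlgSpEN.exists_affine_atlas U hU
  exact ⟨EtOver.mk p hp, hU₀, AlgSpB.surjective_ofPt hps⟩

theorem smul_rs_mem {M : ModEt X.obj} {E E' : EtOver X.obj} (g : E' ⟶ E) (N : Submodule (gr E') (sectModEt M E'))
    (r : gr E) {x : sectModEt M E} (h : rs M g x ∈ N) : rs M g (r • x) ∈ N := by
  rw [rs_smul]; exact N.smul_mem _ h

variable {F : ModEt X.obj} {G : ModEt U.obj} (gR : G ⟶ (Res hj).obj F)

/-- The image of a map to a restriction. -/
noncomputable def img (W : EtOver U.obj) : Submodule (gr ((post hj).obj W)) (sectModEt F ((post hj).obj W)) where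
  carrier := {s | ∃ t, hs gR W t = s}
  add_mem' := fun {x y} hx hy => by
    obtain ⟨a, ha⟩ := hx
    obtain ⟨b, hb⟩ := hy
    exact ⟨a + b, ((hs gR W).map_add a b).trans (congrArg₂ (fun x y : sectModEt F ((post hj).obj W) => x + y) ha hb)⟩
  zero_mem' := ⟨0, (hs gR W).map_zero⟩
  smul_mem' := fun r x hx => by
    obtain ⟨a, ha⟩ := hx
    exact ⟨(show gr W from r) • a, ((hs gR W).map_smul _ a).trans
      (congrArg (fun x : sectModEt F ((post hj).obj W) => r • x) ha)⟩

theorem mem_img {W : EtOver U.obj} {s : sectModEt F ((post hj).obj W)} :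
    s ∈ img hj gR W ↔ ∃ t, hs gR W t = s :=
  Iff.rfl

theorem hs_rs' {W W' : EtOver U.obj} (k : W' ⟶ W) (t : sectModEt G W) :
    hs gR W' (rs G k t) = rs F ((post hj).map k) (hs gR W t) := hs_rs gR k t

theorem rs_mem_img {W W' : EtOver U.obj} (k : W' ⟶ W) {s : sectModEt F ((post hj).obj W)}
    (h : s ∈ img hj gR W) : rs F ((post hj).map k) s ∈ img hj gR W' := by
  obtain ⟨t, rfl⟩ := (mem_img hj gR).1 h
  exact (mem_img hj gR).2 ⟨rs G k t, hs_rs' hj gR k t⟩

theorem mem_img_of_family [Mono gR] {W : EtOver U.obj} {κ : Type u} {V : κ → EtOver U.obj} (f : ∀ k, V k ⟶ W)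
    (hf : ∀ x : W.obj.left.left, ∃ k, x ∈ Set.range (f k).hom.left.left) {s : sectModEt F ((post hj).obj W)}
    (h : ∀ k, rs F ((post hj).map (f k)) s ∈ img hj gR (V k)) : s ∈ img hj gR W := by
  choose t ht using fun k => (mem_img hj gR).1 (h k)
  obtain ⟨t₀, ht₀⟩ := exists_glue_sections f hf t fun a b Z ga gb w => by
    apply hs_injective gR Z
    rw [hs_rs' hj gR, hs_rs' hj gR, ht, ht, ← rs_comp, ← rs_comp, ← Functor.map_comp, ← Functor.map_comp, w]
  refine (mem_img hj gR).2 ⟨t₀, eq_of_family (fun k => (post hj).map (f k)) hf fun k => ?_⟩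
  rw [← hs_rs' hj gR, ht₀, ht]

/-- The largest submodule with given restriction. -/
noncomputable def ext₁ [Mono gR] : LocalSub F where
  carrier E :=
    { carrier := {s | ∀ (W : EtOver U.obj) (h : (post hj).obj W ⟶ E), IsAffine W.obj.left.left →
        rs F h s ∈ img hj gR W}
      add_mem' := fun ha hb W h hW => by rw [map_add]; exact add_mem (ha W h hW) (hb W h hW)
      zero_mem' := fun W h hW => by rw [map_zero]; exact Submodule.zero_mem _
      smul_mem' := fun r s hs W h hW => by rw [rs_smul]; exact Submodule.smul_mem _ _ (hs W h hW) }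
  res_mem g s hs W h hW := by
    rw [← rs_comp]
    exact hs W (h ≫ g) hW
  local_mem {E T} hT s hs W h hW := by
    have : IsAffine ((post hj).obj W).obj.left.left := hW
    obtain ⟨κ, _, V, f, hV, hTf, hf⟩ := exists_affine_family (GrothendieckTopology.pullback_stable (etTop X.obj) h hT)
    choose W' c ι ι' hc hι' hι hl using fun k => exists_lift_obj hj (f k)
    refine mem_img_of_family hj gR c (fun x => ?_) fun k => ?_
    · obtain ⟨k, y, hy⟩ := hf x
      refine ⟨k, (ι' k).hom.left.left y, ?_⟩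
      have e : (ι' k) ≫ (post hj).map (c k) = f k := by rw [hc, ← Category.assoc, hι', Category.id_comp]
      rw [← hy, ← e]
      rfl
    · have hW' : IsAffine (W' k).obj.left.left := (hl k).symm ▸ hV k
      have h2 := hs (V k) (f k ≫ h) (hTf k) (W' k) (ι k) hW'
      rwa [← rs_comp, ← Category.assoc, ← hc, rs_comp] at h2

theorem mem_ext₁_post [Mono gR] {W : EtOver U.obj} (hW : IsAffine W.obj.left.left)
    (s : sectModEt F ((post hj).obj W)) : s ∈ (ext₁ hj gR).carrier ((post hj).obj W) ↔ s ∈ img hj gR W := by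
  refine ⟨fun h => ?_, fun hs W' h hW' => ?_⟩
  · have := h W (𝟙 _) hW
    rwa [rs_id] at this
  · obtain ⟨k, rfl⟩ := exists_map_eq hj h
    exact rs_mem_img hj gR k hs

theorem gen_ext₁ [QuasiSeparatedSpace ↥S] [F.IsQuasicoherent] [G.IsQuasicoherent] [Mono gR]
    (hqs : IsQuasiSeparatedSp X.obj) (hU : IsQuasiCompactSp U.obj) : Gen (ext₁ hj gR) := by
  refine gen_of_finite_conditions (J := topSub F) gen_topSub (fun E _ _ => trivial) fun E hE => ?_
  obtain ⟨E₀, hE₀, h₀⟩ := exists_atlas_obj hU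
  have : IsAffine ((post hj).obj E₀).obj.left.left := hE₀
  obtain ⟨κ, hκ, P, a, b, hP, -, hu⟩ := exists_meet X hqs E ((post hj).obj E₀)
  choose P' b' ι ι' hb hι' hι hl using fun k => exists_lift_obj hj (b k)
  have hP' : ∀ k, IsAffine (P' k).obj.left.left := fun k => (hl k).symm ▸ hP k
  refine ⟨κ, hκ, fun k => (post hj).obj (P' k), fun k => ι k ≫ a k, fun k => img hj gR (P' k), hP',
    fun s => ⟨fun h => ⟨trivial, fun k => h (P' k) _ (hP' k)⟩, fun ⟨_, h⟩ W m hW => ?_⟩,
    fun k W Q g hW hQ c d hcd l hl' => ?_⟩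
  · -- locally every map factors through the family
    choose W₁ a₁ b₁ hW₁ hx₁ using fun x : W.obj.left.left => (show ∃ (W₁ : EtOver U.obj) (a : W₁ ⟶ W)
        (_ : W₁ ⟶ E₀), IsAffine W₁.obj.left.left ∧ x ∈ Set.range a.hom.left.left by
      obtain ⟨u, hu⟩ := h₀ (Points.ofPt W.obj.hom x)
      obtain ⟨W', a, b, w', hW', hw', -⟩ := exists_common_affine hu.symm
      exact ⟨W', a, b, hW', w', hw'⟩)
    refine mem_img_of_family hj gR a₁ (fun x => ⟨x, hx₁ x⟩) fun x => ?_
    choose W₂ c₂ k₂ d₂ hW₂ hx₂ e₁ e₂ using fun y : (W₁ x).obj.left.left =>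
      hu ((post hj).obj (W₁ x)) ((post hj).map (a₁ x) ≫ m) ((post hj).map (b₁ x)) y
    choose W₃ c₃ κ₃ κ₃' hc₃ hκ' hκ hl₃ using fun y => exists_lift_obj hj (c₂ y)
    refine mem_img_of_family hj gR c₃ (fun y => ⟨y, ?_⟩) fun y => ?_
    · obtain ⟨z, hz⟩ := hx₂ y
      refine ⟨(κ₃' y).hom.left.left z, ?_⟩
      have e : κ₃' y ≫ (post hj).map (c₃ y) = c₂ y := by rw [hc₃, ← Category.assoc, hκ', Category.id_comp]
      refine Eq.trans ?_ hz
      rw [← e]
      rfl
    · obtain ⟨q, hq⟩ := exists_map_eq hj (κ₃ y ≫ d₂ y ≫ ι' (k₂ y))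
      have := rs_mem_img hj gR q (h (k₂ y))
      have e : (post hj).map q ≫ ι (k₂ y) ≫ a (k₂ y) = (post hj).map (c₃ y) ≫ (post hj).map (a₁ x) ≫ m := by
        rw [hq, hc₃, Category.assoc, Category.assoc, Category.assoc, ← Category.assoc (ι' (k₂ y)), hι',
          Category.id_comp, e₁]
      rw [← rs_comp, ← rs_comp]
      rwa [← rs_comp, e] at this
  · obtain ⟨Q', d', κ₁, κ₁', hd, hκ', hκ, hlQ⟩ := exists_lift_obj hj d
    have hQ' : IsAffine Q'.obj.left.left := hlQ.symm ▸ hQ
    have := hP' k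
    obtain ⟨t, ht⟩ := (mem_img hj gR).1 (hl' Q' (κ₁ ≫ c) hQ')
    obtain ⟨cc, rfl⟩ := (bc_of_isQuasicoherent (M := G) d').1 t
    have e : rs F c l = rs F κ₁' (hs gR Q' (Finsupp.linearCombination (gr Q') (rs G d') cc)) := by
      rw [ht, ← rs_comp, ← Category.assoc, hκ', Category.id_comp]
    rw [e, Finsupp.linearCombination_apply, map_finsuppSum, map_finsuppSum]
    refine Submodule.sum_mem _ fun z _ => ?_
    change rs F κ₁' (hs gR Q' (cc z • rs G d' z)) ∈ _
    have : hs gR Q' (cc z • rs G d' z) = (show gr ((post hj).obj Q') from cc z) • rs F ((post hj).map d') (hs gR (P' k) z) :=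
      ((hs gR Q').map_smul _ _).trans (congrArg _ (hs_rs' hj gR d' z))
    rw [this]
    refine smul_rs_mem κ₁' _ _ ?_
    rw [← rs_comp, hd, ← Category.assoc, hκ', Category.id_comp]
    exact Submodule.subset_span ⟨_, (mem_img hj gR).2 ⟨z, rfl⟩, rfl⟩

theorem exists_extension [QuasiSeparatedSpace ↥S] [F.IsQuasicoherent] [G.IsQuasicoherent] [G.IsFiniteType] [Mono gR]
    (hqc : IsQuasiCompactSp X.obj) (hqs : IsQuasiSeparatedSp X.obj) (hU : IsQuasiCompactSp U.obj) :
    ∃ (J : LocalSub F), Gen J ∧ (∀ E, IsAffine E.obj.left.left → (J.carrier E).FG) ∧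
      ∃ e : (Res hj).obj J.mod ≅ G, e.hom ≫ gR = (Res hj).map J.ι := by
  obtain ⟨E₀, hE₀, h₀⟩ := exists_atlas_obj hU
  have hE₀' : IsAffine ((post hj).obj E₀).obj.left.left := hE₀
  have : Module.Finite (gr E₀) (sectModEt G E₀) := finite_sections _
  obtain ⟨n, s, hs'⟩ := Module.Finite.exists_fin (R := gr E₀) (M := sectModEt G E₀)
  obtain ⟨J, hJ, hle, hfg, hmem⟩ := exists_fg_le hqc hqs (gen_ext₁ hj gR hqs hU) (κ := ULift.{u} (Fin n))
    (fun _ => (post hj).obj E₀) (fun _ => hE₀') (fun i => hs gR _ (s i.down))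
    (fun i => (mem_ext₁_post hj gR hE₀ _).2 ((mem_img hj gR).2 ⟨_, rfl⟩))
  refine ⟨J, hJ, hfg, ?_⟩
  have hgen : ∀ z : sectModEt G E₀, hs gR E₀ z ∈ J.carrier ((post hj).obj E₀) := by
    intro z
    have ht : z ∈ Submodule.span (gr E₀) (Set.range s) := hs' ▸ trivial
    induction ht using Submodule.span_induction with
    | mem y hy =>
      obtain ⟨i, rfl⟩ := hy
      exact hmem ⟨i⟩
    | zero => rw [map_zero]; exact Submodule.zero_mem _
    | add x y _ _ hx hy => rw [map_add]; exact Submodule.add_mem _ hx hy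
    | smul r x _ hx => rw [map_smul]; exact Submodule.smul_mem _ _ hx
  have hG : ∀ (W : EtOver U.obj) (t : sectModEt G W), hs gR W t ∈ J.carrier ((post hj).obj W) := by
    intro W t
    choose W₁ a₁ b₁ hW₁ hx₁ using fun x : W.obj.left.left => (show ∃ (W₁ : EtOver U.obj) (a : W₁ ⟶ W)
        (_ : W₁ ⟶ E₀), IsAffine W₁.obj.left.left ∧ x ∈ Set.range a.hom.left.left by
      obtain ⟨u, hu⟩ := h₀ (Points.ofPt W.obj.hom x)
      obtain ⟨W', a, b, w', hW', hw', -⟩ := exists_common_affine hu.symm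
      exact ⟨W', a, b, hW', w', hw'⟩)
    refine J.local_mem (AlgSp.ofArrows_mem_etTop (fun x => (post hj).obj (W₁ x)) (fun x => (post hj).map (a₁ x))
      fun x => ⟨x, hx₁ x⟩) fun V f hf => ?_
    obtain ⟨x, α, rfl⟩ := Sieve.mem_ofArrows_iff .. |>.1 hf
    rw [rs_comp]
    refine J.res_mem α ?_
    rw [← hs_rs' hj gR]
    have := hW₁ x
    obtain ⟨cc, hcc⟩ := (bc_of_isQuasicoherent (M := G) (b₁ x)).1 (rs G (a₁ x) t)
    rw [← hcc, Finsupp.linearCombination_apply, map_finsuppSum]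
    refine Submodule.sum_mem _ fun z _ => ?_
    have hz := hgen z
    change hs gR _ (cc z • rs G (b₁ x) z) ∈ _
    rw [map_smul]
    refine Submodule.smul_mem _ _ ?_
    rw [hs_rs' hj gR]
    exact J.res_mem _ hz
  let v : G ⟶ (Res hj).obj J.mod :=
    ⟨PresheafOfModules.homMk
      { app := fun W => AddCommGrpCat.ofHom
          { toFun := fun t => (⟨hs gR W.unop t, hG W.unop t⟩ : sectModEt J.mod ((post hj).obj W.unop))
            map_zero' := Subtype.ext (map_zero (hs gR W.unop))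
            map_add' := fun a b => Subtype.ext (map_add (hs gR W.unop) a b) }
        naturality := fun W W' g => by
          ext t
          exact Subtype.ext (hs_rs' hj gR g.unop t) }
      (fun W r t => Subtype.ext ((gR.val.app W).hom.map_smul r t))⟩
  have hv : v ≫ (Res hj).map J.ι = gR := by
    ext W t
    rfl
  have hsurj : ∀ (W : EtOver U.obj) (s : sectModEt J.mod ((post hj).obj W)), ∃ t, hs v W t = s := by
    intro W s
    choose V f hV hx _ using fun x : W.obj.left.left => exists_affine_nbhd W ⊤ (x := x) trivial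
    have hmem' : s.1 ∈ img hj gR W := mem_img_of_family hj gR f (fun x => ⟨x, hx x⟩) fun k =>
      (mem_ext₁_post hj gR (hV k) _).1 (hle _ (J.res_mem _ s.2))
    obtain ⟨t, ht⟩ := (mem_img hj gR).1 hmem'
    exact ⟨t, Subtype.ext ht⟩
  have : ∀ W, IsIso (((SheafOfModules.forget _).map v).app W) := fun W =>
    (ConcreteCategory.isIso_iff_bijective _).2 ⟨fun a b h => hs_injective gR W.unop (congrArg Subtype.val h),
      fun s => by obtain ⟨t, ht⟩ := hsurj W.unop s; exact ⟨t, ht⟩⟩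
  have : IsIso ((SheafOfModules.forget _).map v) :=
    (isIso_iff_of_reflects_iso _ (PresheafOfModules.toPresheaf _)).1 (by
      refine @NatIso.isIso_of_isIso_app _ _ _ _ _ _ _ fun W => ?_
      exact inferInstanceAs (IsIso ((forget₂ _ AddCommGrpCat).map (((SheafOfModules.forget _).map v).app W))))
  have : IsIso v := isIso_of_reflects_iso v (SheafOfModules.forget _)
  exact ⟨(asIso v).symm, by rw [Iso.symm_hom, asIso_inv, IsIso.inv_comp_eq, hv]⟩

end Groth.Agent.AlgSpB.SubQC
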