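import Groth.Agent.AlgSpQC.Abelian
import Groth.Agent.AlgSpQC.Cart
import Mathlib.Algebra.Category.ModuleCat.Presheaf.Submodule

/-!
# Submodules of modules on the small etale site given by local conditions on sections
-/

universe u

open CategoryTheory CategoryTheory.Limits AlgebraicGeometry Opposite TensorProduct

set_option backward.isDefEq.respectTransparency false
set_option backward.isDefEq.respectTransparency.types false
set_option autoImplicit false

namespace Groth.Agent.AlgSpB.SubQC

open _root_.AlgSp
open Groth.Agent.AlgSpQC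

variable {S : Scheme.{u}} {X : Sp S}

/-- A family of submodules of sections stable under restriction and local. -/
structure LocalSub (M : ModEt X) where
  /-- the submodule of sections -/
  carrier : ∀ E : EtOver X, Submodule (gr E) (sectModEt M E)
  /-- stability under restriction -/
  res_mem : ∀ {E E' : EtOver X} (g : E' ⟶ E) {s : sectModEt M E}, s ∈ carrier E → rs M g s ∈ carrier E'
  /-- locality -/
  local_mem : ∀ {E : EtOver X} {T : Sieve E}, T ∈ etTop X E → ∀ {s : sectModEt M E},
    (∀ (V : EtOver X) (f : V ⟶ E), T f → rs M f s ∈ carrier V) → s ∈ carrier E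

variable {M : ModEt X} (P : LocalSub M)

/-- The underlying submodule of presheaves of modules. -/
noncomputable def LocalSub.toSub : M.val.Submodule where
  obj E :=
    { carrier := (P.carrier E.unop : Set (sectModEt M E.unop))
      add_mem' := fun ha hb => (P.carrier E.unop).add_mem ha hb
      zero_mem' := (P.carrier E.unop).zero_mem
      smul_mem' := fun r _ hx => (P.carrier E.unop).smul_mem r.down hx }
  map f := fun _ hs => P.res_mem f.unop hs

theorem isSheaf_toSub : Presheaf.IsSheaf (etTop X) P.toSub.toPresheafOfModules.presheaf := by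
  refine Presheaf.isSheaf_of_isSheaf_comp (etTop X) _ (CategoryTheory.forget AddCommGrpCat) ?_
  rw [isSheaf_iff_isSheaf_of_type]
  intro E T hT x hx
  have hM : Presieve.IsSheaf (etTop X) (M.val.presheaf ⋙ CategoryTheory.forget AddCommGrpCat) :=
    (isSheaf_iff_isSheaf_of_type _ _).1
      (Presheaf.isSheaf_comp_of_isSheaf (etTop X) M.val.presheaf (CategoryTheory.forget AddCommGrpCat) M.isSheaf)
  obtain ⟨t, ht, huniq⟩ := hM T hT (fun V f hf => (x f hf).1)
    (fun Y₁ Y₂ Z g₁ g₂ f₁ f₂ h₁ h₂ w => congrArg Subtype.val (hx g₁ g₂ h₁ h₂ w))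
  have htmem : t ∈ P.carrier E := P.local_mem hT fun V f hf => by
    have h := ht f hf
    change rs M f t = (x f hf).1 at h
    rw [h]
    exact (x f hf).2
  refine ⟨⟨t, htmem⟩, fun V f hf => Subtype.ext (ht f hf), fun y hy => Subtype.ext ?_⟩
  exact huniq y.1 fun V f hf => congrArg Subtype.val (hy f hf)

/-- The submodule. -/
noncomputable def LocalSub.mod : ModEt X where
  val := P.toSub.toPresheafOfModules
  isSheaf := isSheaf_toSub P

/-- The inclusion. -/
noncomputable def LocalSub.ι : P.mod ⟶ M := ⟨P.toSub.ι⟩

instance : Mono P.ι := (SheafOfModules.forget _).mono_of_mono_map (inferInstanceAs (Mono P.toSub.ι))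

theorem range_ι (E : EtOver X) : Set.range (P.ι.val.app (op E)).hom = (P.carrier E : Set (sectModEt M E)) := by
  ext s
  exact ⟨by rintro ⟨t, rfl⟩; exact t.2, fun h => ⟨⟨s, h⟩, rfl⟩⟩

theorem val_rs {E W : EtOver X} (g : W ⟶ E) (t : sectModEt P.mod E) : (rs P.mod g t).1 = rs M g t.1 := rfl

theorem val_smul {E : EtOver X} (a : gr E) (t : sectModEt P.mod E) : (a • t).1 = a • t.1 := rfl

/-- The inclusion on sections as a linear map. -/
noncomputable def LocalSub.incl (E : EtOver X) : sectModEt P.mod E →ₗ[gr E] sectModEt M E := hs P.ι E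

theorem incl_apply (E : EtOver X) (t : sectModEt P.mod E) : P.incl E t = t.1 := rfl

theorem incl_injective (E : EtOver X) : Function.Injective (P.incl E) := fun _ _ h => Subtype.ext h

/-- Sections killed by the extension of a finitely generated ideal come from sections killed by the ideal. -/
theorem exists_of_killed [M.IsQuasicoherent] {E W : EtOver X} [IsAffine E.obj.left.left] [IsAffine W.obj.left.left]
    (g : W ⟶ E) {r : ℕ} (a : Fin r → gr E) {l : sectModEt M W} (hl : ∀ i, gm g (a i) • l = 0) :
    ∃ c : sectModEt M E →₀ gr W, (∀ m ∈ c.support, ∀ i, a i • m = 0) ∧ lc (rs M g) c = l := by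
  classical
  let _ := (gm g).toAlgebra
  have : Module.Flat (gr E) (gr W) := flat_gm g
  have hbc := (isBC_iff (A := gr E) (rs M g) (rs_smul g)).1 (bc_of_isQuasicoherent g)
  let δ : sectModEt M E →ₗ[gr E] (ULift.{u} (Fin r) → sectModEt M E) :=
    LinearMap.pi fun i => LinearMap.lsmul (gr E) (sectModEt M E) (a i.down)
  let η := (LinearMap.ker δ).subtype
  obtain ⟨y, hy⟩ := hbc.2 l
  let Φ := bcPi (A := gr E) (B := gr W) (κ := ULift.{u} (Fin r)) fun _ => (bc (rs M g) (rs_smul g)).toAddMonoidHom
  have hΦ : Function.Injective Φ := bcPi_injective _ fun _ => hbc.1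
  have hy0 : LinearMap.lTensor (gr W) δ y = 0 := by
    refine hΦ (Eq.trans ?_ (map_zero Φ).symm)
    funext i
    change bc (rs M g) (rs_smul g) (LinearMap.lTensor (gr W) (LinearMap.proj i) (LinearMap.lTensor (gr W) δ y)) = 0
    have key : ∀ z, bc (rs M g) (rs_smul g) (LinearMap.lTensor (gr W) (LinearMap.proj i) (LinearMap.lTensor (gr W) δ z)) =
        gm g (a i.down) • bc (rs M g) (rs_smul g) z := by
      intro z
      induction z using TensorProduct.induction_on with
      | zero => simp only [map_zero, smul_zero]
      | add z z' hz hz' => simp only [map_add, smul_add, hz, hz']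
      | tmul b m =>
        change b • rs M g (a i.down • m) = gm g (a i.down) • b • rs M g m
        rw [rs_smul, smul_comm]
    rw [key, hy]
    exact hl i.down
  obtain ⟨x, rfl⟩ := (Module.Flat.lTensor_exact (gr W) (LinearMap.exact_subtype_ker_map δ) y).1 hy0
  subst hy
  clear hy0 hl
  induction x using TensorProduct.induction_on with
  | zero => exact ⟨0, by simp, by simp⟩
  | add x x' hx hx' =>
    obtain ⟨c, hc, e⟩ := hx
    obtain ⟨c', hc', e'⟩ := hx'
    refine ⟨c + c', fun m hm => ?_, by simp only [map_add, e, e']⟩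
    rcases Finset.mem_union.1 (Finsupp.support_add hm) with h | h
    · exact hc m h
    · exact hc' m h
  | tmul b m =>
    refine ⟨Finsupp.single m.1 b, fun m' hm' i => ?_, ?_⟩
    · rw [Finset.mem_singleton.1 (Finsupp.support_single_subset hm')]
      exact congrFun (LinearMap.mem_ker.1 m.2) ⟨i⟩
    · simp only [lc, Finsupp.linearCombination_single]
      rfl

/-- A local family of submodules is quasi-coherent once its sections generate after restriction. -/
theorem LocalSub.isQuasicoherent [M.IsQuasicoherent] (P : LocalSub M)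
    (h : ∀ {E W : EtOver X} (g : W ⟶ E), IsAffine E.obj.left.left → IsAffine W.obj.left.left →
      ∀ l ∈ P.carrier W, ∃ c : sectModEt M E →₀ gr W, (∀ m ∈ c.support, m ∈ P.carrier E) ∧ lc (rs M g) c = l) :
    P.mod.IsQuasicoherent := by
  refine isQuasicoherent_of_bc fun E W g hE hW => ?_
  let _ := (gm g).toAlgebra
  have : Module.Flat (gr E) (gr W) := flat_gm g
  have hbc := (isBC_iff (A := gr E) (rs M g) (rs_smul g)).1 (bc_of_isQuasicoherent g)
  refine (isBC_iff (A := gr E) (rs P.mod g) (rs_smul g)).2 ⟨?_, fun l => ?_⟩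
  · have e : ∀ x, (bc (rs P.mod g) (rs_smul g) x).1 =
        bc (rs M g) (rs_smul g) (LinearMap.lTensor (gr W) (P.incl E) x) := by
      intro x
      induction x using TensorProduct.induction_on with
      | zero => simp only [map_zero]; rfl
      | add x y hx hy =>
        simp only [map_add]
        rw [← hx, ← hy]
        rfl
      | tmul b m => rfl
    exact fun x y hxy => Module.Flat.lTensor_preserves_injective_linearMap (M := gr W) (P.incl E) (incl_injective P E)
      (hbc.1 ((e x).symm.trans ((congrArg Subtype.val hxy).trans (e y))))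
  · obtain ⟨c, hc, hl⟩ := h g hE hW l.1 l.2
    refine ⟨∑ m ∈ c.support.attach, c m.1 ⊗ₜ[gr E] (⟨m.1, hc m.1 m.2⟩ : sectModEt P.mod E), ?_⟩
    apply incl_injective P W
    rw [map_sum, map_sum]
    refine Eq.trans ?_ hl
    rw [lc, Finsupp.linearCombination_apply, Finsupp.sum]
    exact (Finset.sum_congr rfl fun m _ => rfl).trans (Finset.sum_attach c.support fun m => c m • rs M g m)

end Groth.Agent.AlgSpB.SubQC
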