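import Groth.Agent.AlgSpB.SubQC.Meet

/-!
# Submodules generated along a chart
-/

universe u

open CategoryTheory CategoryTheory.Limits AlgebraicGeometry Opposite TensorProduct

set_option backward.isDefEq.respectTransparency false
set_option backward.isDefEq.respectTransparency.types false
set_option autoImplicit false
set_option maxHeartbeats 800000

namespace Groth.Agent.AlgSpB.SubQC

open _root_.AlgSp
open Groth.Agent.AlgSpQC

variable {S : Scheme.{u}} {X : Space S} {M : ModEt X.obj}

/-- Sections over affine objects generate after restriction. -/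
def Gen (P : LocalSub M) : Prop :=
  ∀ {E W : EtOver X.obj} (g : W ⟶ E), IsAffine E.obj.left.left → IsAffine W.obj.left.left →
    ∀ l ∈ P.carrier W, l ∈ Submodule.span (gr W) (rs M g '' (P.carrier E : Set (sectModEt M E)))

theorem isQuasicoherent_of_gen [M.IsQuasicoherent] {P : LocalSub M} (hP : Gen P) : P.mod.IsQuasicoherent :=
  P.isQuasicoherent fun g hE hW l hl => by
    obtain ⟨c, hc, e⟩ := (Finsupp.mem_span_image_iff_linearCombination _).1 (hP g hE hW l hl)
    exact ⟨c, fun m hm => (Finsupp.mem_supported _ _).1 hc hm, e⟩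

/-- All sections. -/
noncomputable def topSub (M : ModEt X.obj) : LocalSub M where
  carrier _ := ⊤
  res_mem _ _ _ := trivial
  local_mem _ _ _ := trivial

theorem gen_topSub [M.IsQuasicoherent] : Gen (topSub M) := fun {E W} g hE hW l _ => by
  obtain ⟨c, rfl⟩ := (bc_of_isQuasicoherent g).1 l
  exact (Finsupp.mem_span_image_iff_linearCombination _).2 ⟨c, (Finsupp.mem_supported _ _).2 (Set.subset_univ _), rfl⟩

variable [M.IsQuasicoherent] (J : LocalSub M) {EV : EtOver X.obj} (L : Set (sectModEt M EV))

/-- The sections of `J` which along every map to the chart are generated by given sections. -/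
noncomputable def genBy : LocalSub M where
  carrier E :=
    { carrier := {s | s ∈ J.carrier E ∧ ∀ (W : EtOver X.obj) (g : W ⟶ E) (h : W ⟶ EV),
        IsAffine W.obj.left.left → rs M g s ∈ Submodule.span (gr W) (rs M h '' L)}
      add_mem' := fun ha hb => ⟨add_mem ha.1 hb.1, fun W g h hW => by
        rw [map_add]; exact add_mem (ha.2 W g h hW) (hb.2 W g h hW)⟩
      zero_mem' := ⟨Submodule.zero_mem _, fun W g h hW => by rw [map_zero]; exact Submodule.zero_mem _⟩
      smul_mem' := fun r s hs => ⟨Submodule.smul_mem _ r hs.1, fun W g h hW => by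
        rw [rs_smul]; exact Submodule.smul_mem _ _ (hs.2 W g h hW)⟩ }
  res_mem g s hs := ⟨J.res_mem g hs.1, fun W g' h hW => by rw [← rs_comp]; exact hs.2 W (g' ≫ g) h hW⟩
  local_mem {E T} hT s hs := ⟨J.local_mem hT fun V f hf => (hs V f hf).1, fun W g h hW => by
    obtain ⟨κ, _, V, f, hV, hTf, hf⟩ := exists_affine_family (GrothendieckTopology.pullback_stable (etTop X.obj) g hT)
    refine mem_of_point _ fun x => ?_
    obtain ⟨k, hk⟩ := hf x
    refine ⟨V k, f k, hk, ?_⟩
    have h2 := (hs (V k) (f k ≫ g) (hTf k)).2 (V k) (𝟙 _) (f k ≫ h) (hV k)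
    rw [rs_id, rs_comp] at h2
    refine Submodule.span_mono ?_ h2
    rintro _ ⟨l, hl, rfl⟩
    exact ⟨rs M h l, Submodule.subset_span ⟨l, hl, rfl⟩, (rs_comp h (f k) l).symm⟩⟩

theorem genBy_le (E : EtOver X.obj) : (genBy J L).carrier E ≤ J.carrier E := fun _ h => h.1

theorem mem_genBy_of_family {E : EtOver X.obj} {κ : Type u} {P : κ → EtOver X.obj} (a : ∀ k, P k ⟶ E)
    (b : ∀ k, P k ⟶ EV)
    (hu : ∀ (W : EtOver X.obj) (g : W ⟶ E) (h : W ⟶ EV) (x : W.obj.left.left),
      ∃ (W' : EtOver X.obj) (c : W' ⟶ W) (k : κ) (d : W' ⟶ P k), IsAffine W'.obj.left.left ∧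
        x ∈ Set.range c.hom.left.left ∧ c ≫ g = d ≫ a k ∧ c ≫ h = d ≫ b k)
    {s : sectModEt M E} (hs : s ∈ J.carrier E)
    (h : ∀ k, rs M (a k) s ∈ Submodule.span (gr (P k)) (rs M (b k) '' L)) :
    s ∈ (genBy J L).carrier E := by
  refine ⟨hs, fun W g k' hW => mem_of_point _ fun x => ?_⟩
  obtain ⟨W', c, k, d, -, hx, e₁, e₂⟩ := hu W g k' x
  refine ⟨W', c, hx, ?_⟩
  rw [← rs_comp, e₁, rs_comp]
  refine Submodule.span_mono ?_ (rs_mem_span (b k) d (h k))
  rintro _ ⟨l, hl, rfl⟩
  exact ⟨rs M k' l, Submodule.subset_span ⟨l, hl, rfl⟩, by rw [← rs_comp, e₂]⟩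

theorem pushout_span {E U V P : EtOver X.obj} (g : U ⟶ E) (f : V ⟶ E) (a : P ⟶ U) (b : P ⟶ V)
    (h : IsPushout (CommRingCat.ofHom (gm g)) (CommRingCat.ofHom (gm f)) (CommRingCat.ofHom (gm a))
      (CommRingCat.ofHom (gm b))) (H : AddSubgroup (gr P)) (hH : ∀ u v, gm a u * gm b v ∈ H) (q : gr P) : q ∈ H := by
  let _ := (gm g).toAlgebra
  let _ := (gm f).toAlgebra
  let _ := (gm a).toAlgebra
  let _ := (gm b).toAlgebra
  let _ : Algebra (gr E) (gr P) := ((gm a).comp (gm g)).toAlgebra
  have : IsScalarTower (gr E) (gr U) (gr P) := .of_algebraMap_eq fun x => rfl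
  have : IsScalarTower (gr E) (gr V) (gr P) := .of_algebraMap_eq fun x =>
    (RingHom.congr_fun (congrArg CommRingCat.Hom.hom h.w) x)
  have hP : Algebra.IsPushout (gr E) (gr U) (gr V) (gr P) := CommRingCat.isPushout_iff_isPushout.1 h
  obtain ⟨x, rfl⟩ := (Algebra.IsPushout.equiv (gr E) (gr U) (gr V) (gr P)).surjective q
  induction x using TensorProduct.induction_on with
  | zero => simp only [map_zero]; exact H.zero_mem
  | add x y hx hy => rw [map_add]; exact H.add_mem hx hy
  | tmul u v =>
    rw [Algebra.IsPushout.equiv_tmul]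
    exact hH u v

theorem gen_genBy [QuasiSeparatedSpace ↥S] (hqs : IsQuasiSeparatedSp X.obj) [IsAffine EV.obj.left.left]
    (hJ : Gen J) : Gen (genBy J L) := by
  intro E W g hE hW l hl
  obtain ⟨κ, _, P, a, b, hP, -, hu⟩ := exists_meet X hqs E EV
  choose Q c d hQ hcd hpush _ using fun k => (have := hP k; exists_overlap g (a k))
  let _ := (gm g).toAlgebra
  have : Module.Flat (gr E) (gr W) := flat_gm g
  let _ := fun k => overBase M (a k)
  choose Φ hΦ hΦt using fun k =>
    (have := hP k; have := hQ k; exists_bc_square (pres_id M (P k)) g (a k) (c k) (d k) (hcd k) (hpush k))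
  let A : ∀ k, sectModEt M E →ₗ[gr E] sectModEt M (P k) := fun k =>
    { toFun := rs M (a k)
      map_add' := map_add _
      map_smul' := fun r m => rs_smul (a k) r m }
  let N : ∀ k, Submodule (gr E) (sectModEt M (P k)) := fun k =>
    { carrier := (Submodule.span (gr (P k)) (rs M (b k) '' L) : Set (sectModEt M (P k)))
      add_mem' := fun ha hb => add_mem ha hb
      zero_mem' := Submodule.zero_mem _
      smul_mem' := fun r _ hx => Submodule.smul_mem _ (gm (a k) r) hx }
  let δ : J.carrier E →ₗ[gr E] ∀ k, sectModEt M (P k) ⧸ N k :=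
    LinearMap.pi fun k => ((N k).mkQ.comp (A k)).comp (J.carrier E).subtype
  -- lift `l` to the tensor product
  obtain ⟨y, hy⟩ : ∃ y : gr W ⊗[gr E] J.carrier E,
      bc (rs M g) (rs_smul g) (LinearMap.lTensor (gr W) (J.carrier E).subtype y) = l := by
    suffices ∀ x ∈ Submodule.span (gr W) (rs M g '' (J.carrier E : Set (sectModEt M E))),
        ∃ y : gr W ⊗[gr E] J.carrier E, bc (rs M g) (rs_smul g) (LinearMap.lTensor (gr W) (J.carrier E).subtype y) = x
      from this l (hJ g hE hW l hl.1)
    intro x h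
    induction h using Submodule.span_induction with
    | mem x hx =>
      obtain ⟨z, hz, rfl⟩ := hx
      exact ⟨1 ⊗ₜ ⟨z, hz⟩, one_smul _ _⟩
    | zero => exact ⟨0, by simp only [map_zero]⟩
    | add x y _ _ hx hy =>
      obtain ⟨u, hu⟩ := hx
      obtain ⟨v, hv⟩ := hy
      exact ⟨u + v, by simp only [map_add, hu, hv]⟩
    | smul r x _ hx =>
      obtain ⟨u, hu⟩ := hx
      refine ⟨r • u, ?_⟩
      rw [← hu]
      clear hu
      induction u using TensorProduct.induction_on with
      | zero => simp only [smul_zero, map_zero]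
      | add u v hu hv => simp only [smul_add, map_add] at *; exact congrArg₂ _ hu hv
      | tmul u m =>
        change (r * u) • rs M g m.1 = r • u • rs M g m.1
        rw [mul_smul]
  -- it lies in the kernel
  have hk : ∀ k, LinearMap.lTensor (gr W) (N k).mkQ
      (LinearMap.lTensor (gr W) ((A k).comp (J.carrier E).subtype) y) = 0 := by
    intro k
    let z := LinearMap.lTensor (gr W) ((A k).comp (J.carrier E).subtype) y
    have e : Φ k z = rs M (c k) l := by
      rw [← hy]
      have : ∀ y, Φ k (LinearMap.lTensor (gr W) ((A k).comp (J.carrier E).subtype) y) =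
          rs M (c k) (bc (rs M g) (rs_smul g) (LinearMap.lTensor (gr W) (J.carrier E).subtype y)) := by
        intro y
        induction y using TensorProduct.induction_on with
        | zero => simp only [map_zero]
        | add u v hu hv => simp only [map_add, hu, hv]
        | tmul u m =>
          change Φ k (u ⊗ₜ rs M (a k) m.1) = rs M (c k) (u • rs M g m.1)
          rw [hΦt, rs_smul, ← rs_comp, ← rs_comp, hcd]
      exact this y
    have hmem : rs M (c k) l ∈ Submodule.span (gr (Q k)) (rs M (d k ≫ b k) '' L) :=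
      hl.2 (Q k) (c k) (d k ≫ b k) (hQ k)
    -- the image of `N k` is stable
    let H : AddSubgroup (sectModEt M (Q k)) :=
      AddMonoidHom.range ((Φ k).comp (LinearMap.lTensor (gr W) (N k).subtype).toAddMonoidHom)
    have hHmem : ∀ w, Φ k (LinearMap.lTensor (gr W) (N k).subtype w) ∈ H := fun w => ⟨w, rfl⟩
    have hH : ∀ x ∈ Submodule.span (gr (Q k)) (rs M (d k ≫ b k) '' L), ∀ q : gr (Q k), q • x ∈ H := by
      intro x hx
      induction hx using Submodule.span_induction with
      | mem x hx =>
        obtain ⟨m, hm, rfl⟩ := hx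
        refine pushout_span g (a k) (c k) (d k) (hpush k)
          (H.comap ((smulAddHom (gr (Q k)) (sectModEt M (Q k))).flip (rs M (d k ≫ b k) m))) fun u v => ?_
        change (gm (c k) u * gm (d k) v) • rs M (d k ≫ b k) m ∈ H
        have h1 := hHmem (u ⊗ₜ ⟨v • rs M (b k) m, Submodule.smul_mem _ v (Submodule.subset_span ⟨m, hm, rfl⟩)⟩)
        rw [LinearMap.lTensor_tmul, hΦt] at h1
        change gm (c k) u • rs M (d k) (v • rs M (b k) m) ∈ H at h1
        rwa [rs_smul, ← rs_comp, smul_smul] at h1
      | zero => intro q; rw [smul_zero]; exact H.zero_mem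
      | add x y _ _ hx hy => intro q; rw [smul_add]; exact H.add_mem (hx q) (hy q)
      | smul r x _ hx => intro q; rw [smul_smul]; exact hx _
    obtain ⟨w, hw⟩ := (one_smul (gr (Q k)) (rs M (c k) l)) ▸ hH _ hmem 1
    have : z = LinearMap.lTensor (gr W) (N k).subtype w := (hΦ k).1 (e.trans hw.symm)
    change LinearMap.lTensor (gr W) (N k).mkQ z = 0
    rw [this, ← LinearMap.comp_apply, ← LinearMap.lTensor_comp,
      show (N k).mkQ.comp (N k).subtype = 0 from LinearMap.ext fun x => (Submodule.Quotient.mk_eq_zero _).2 x.2,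
      LinearMap.lTensor_zero, LinearMap.zero_apply]
  have hy0 : LinearMap.lTensor (gr W) δ y = 0 := by
    classical
    have := Fintype.ofFinite κ
    refine (TensorProduct.piRight (gr E) (gr E) (gr W) fun k => sectModEt M (P k) ⧸ N k).injective ?_
    rw [map_zero]
    funext k
    have : ∀ y, (TensorProduct.piRight (gr E) (gr E) (gr W) fun k => sectModEt M (P k) ⧸ N k)
        (LinearMap.lTensor (gr W) δ y) k = LinearMap.lTensor (gr W) (N k).mkQ
          (LinearMap.lTensor (gr W) ((A k).comp (J.carrier E).subtype) y) := by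
      intro y
      induction y using TensorProduct.induction_on with
      | zero => simp
      | add u v hu hv => simp only [map_add, Pi.add_apply, hu, hv]
      | tmul u m => rfl
    exact (this y).trans (hk k)
  obtain ⟨x, hx⟩ := (Module.Flat.lTensor_exact (gr W) (LinearMap.exact_subtype_ker_map δ) y).1 hy0
  subst hx
  rw [← hy]
  clear hy hy0 hk hl
  induction x using TensorProduct.induction_on with
  | zero => simp only [map_zero]; exact Submodule.zero_mem _
  | add u v hu hv => simp only [map_add]; exact Submodule.add_mem _ hu hv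
  | tmul u m =>
    change u • rs M g m.1.1 ∈ _
    refine Submodule.smul_mem _ u (Submodule.subset_span ⟨m.1.1, ?_, rfl⟩)
    refine mem_genBy_of_family J L a b hu m.1.2 fun k => ?_
    exact (Submodule.Quotient.mk_eq_zero _).1 (congrFun (LinearMap.mem_ker.1 m.2) k)

end Groth.Agent.AlgSpB.SubQC
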