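import Groth.Agent.AlgSpB.SubQC.Basic

/-!
# Sections killed by a quasi-coherent ideal
-/

universe u

open CategoryTheory CategoryTheory.Limits AlgebraicGeometry Opposite

set_option backward.isDefEq.respectTransparency false
set_option backward.isDefEq.respectTransparency.types false
set_option autoImplicit false

namespace Groth.Agent.AlgSpB.SubQC

open _root_.AlgSp
open Groth.Agent.AlgSpQC

variable {S : Scheme.{u}} {X : Sp S} {M : ModEt X}

/-- Sections killed by the values of a family of ideals on affine objects. -/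
noncomputable def killed (M : ModEt X) (I : IdealEt X) : LocalSub M where
  carrier E :=
    { carrier := {s | ∀ (W : EtOver X) (g : W ⟶ E) (hW : IsAffine W.obj.left.left), ∀ a ∈ I.ideal W hW,
        a • rs M g s = 0}
      add_mem' := fun hs ht W g hW a ha => by rw [map_add, smul_add, hs W g hW a ha, ht W g hW a ha, add_zero]
      zero_mem' := fun W g hW a ha => by rw [map_zero, smul_zero]
      smul_mem' := fun r s hs W g hW a ha => by rw [rs_smul, smul_comm, hs W g hW a ha, smul_zero] }
  res_mem g s hs W h hW a ha := by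
    rw [← rs_comp]
    exact hs W (h ≫ g) hW a ha
  local_mem {E T} hT s hs W g hW a ha := by
    obtain ⟨κ, _, V, f, hV, hTf, hf⟩ := exists_affine_family (GrothendieckTopology.pullback_stable (etTop X) g hT)
    refine eq_of_family f hf fun k => ?_
    rw [rs_smul, ← rs_comp, map_zero]
    have h := hs (V k) (f k ≫ g) (hTf k) (V k) (𝟙 _) (hV k) (gm (f k) a)
      (I.map_le (f k) hW (hV k) (Ideal.mem_map_of_mem _ ha))
    rwa [rs_id] at h

theorem mem_killed_iff {I : IdealEt X} (hI : I.IsQCoh) {E : EtOver X} (hE : IsAffine E.obj.left.left)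
    (s : sectModEt M E) : s ∈ (killed M I).carrier E ↔ ∀ a ∈ I.ideal E hE, a • s = 0 := by
  refine ⟨fun h a ha => by simpa only [rs_id] using h E (𝟙 E) hE a ha, fun h W g hW a ha => ?_⟩
  have h2 : a ∈ Ideal.span (gm g '' (I.ideal E hE : Set (gr E))) := hI g hE hW ha
  clear ha
  induction h2 using Submodule.span_induction with
  | mem x hx =>
    obtain ⟨b, hb, rfl⟩ := hx
    rw [← rs_smul, h b hb, map_zero]
  | zero => exact zero_smul _ _
  | add x y _ _ hx hy => rw [add_smul, hx, hy, add_zero]
  | smul c x _ hx => rw [smul_eq_mul, mul_smul, hx, smul_zero]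

theorem isQuasicoherent_killed [M.IsQuasicoherent] {I : IdealEt X} (hI : I.IsQCoh)
    (hft : ∀ (E : EtOver X) (hE : IsAffine E.obj.left.left), (I.ideal E hE).FG) :
    (killed M I).mod.IsQuasicoherent := by
  refine LocalSub.isQuasicoherent _ fun {E W} g hE hW l hl => ?_
  obtain ⟨r, a, ha⟩ := Submodule.fg_iff_exists_fin_generating_family.1 (hft E hE)
  obtain ⟨c, hc, e⟩ := exists_of_killed g a (l := l) fun i => by
    have h := (mem_killed_iff hI hW l).1 hl (gm g (a i))
      (I.map_le g hE hW (Ideal.mem_map_of_mem _ (ha ▸ Submodule.subset_span ⟨i, rfl⟩)))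
    exact h
  refine ⟨c, fun m hm => (mem_killed_iff hI hE m).2 fun b hb => ?_, e⟩
  rw [← ha] at hb
  induction hb using Submodule.span_induction with
  | mem x hx =>
    obtain ⟨i, rfl⟩ := hx
    exact hc m hm i
  | zero => exact zero_smul _ _
  | add x y _ _ hx hy => rw [add_smul, hx, hy, add_zero]
  | smul d x _ hx => rw [smul_eq_mul, mul_smul, hx, smul_zero]

end Groth.Agent.AlgSpB.SubQC
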