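import Groth.Agent.AlgSpB.SubQC.Basic
import Groth.Agent.AlgSpEN.Induction

/-!
# Affine objects of the small etale site: common refinements and local membership
-/

universe u

open CategoryTheory CategoryTheory.Limits AlgebraicGeometry Opposite

set_option backward.isDefEq.respectTransparency false
set_option backward.isDefEq.respectTransparency.types false
set_option autoImplicit false

namespace Groth.Agent.AlgSpB.SubQC

open _root_.AlgSp
open Groth.Agent.AlgSpQC

variable {S : Scheme.{u}}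

/-- Two affine objects have a finite affine family through which pairs of maps to them locally factor. -/
theorem exists_meet [QuasiSeparatedSpace ↥S] (X : Space S) (hqs : IsQuasiSeparatedSp X.obj)
    (E E' : EtOver X.obj) [IsAffine E.obj.left.left] [IsAffine E'.obj.left.left] :
    ∃ (κ : Type u) (_ : Finite κ) (P : κ → EtOver X.obj) (a : ∀ k, P k ⟶ E) (b : ∀ k, P k ⟶ E'),
      (∀ k, IsAffine (P k).obj.left.left) ∧
      (∀ (x : E.obj.left.left) (x' : E'.obj.left.left), Points.ofPt E.obj.hom x = Points.ofPt E'.obj.hom x' →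
        ∃ k, x ∈ Set.range (a k).hom.left.left) ∧
      ∀ (W : EtOver X.obj) (g : W ⟶ E) (h : W ⟶ E') (x : W.obj.left.left),
        ∃ (W' : EtOver X.obj) (c : W' ⟶ W) (k : κ) (d : W' ⟶ P k), IsAffine W'.obj.left.left ∧
          x ∈ Set.range c.hom.left.left ∧ c ≫ g = d ≫ a k ∧ c ≫ h = d ≫ b k := by
  obtain ⟨R, π₁, π₂, sq⟩ := AlgSpB.exists_pullback_yon E.property.1 E'.obj.hom
  have he1 : Etale π₁.left := E'.property.2 _ _ _ sq.flip
  have : QuasiCompact π₁.left :=
    (AlgSpEN.repWith_quasiCompact_chart X hqs E'.obj.hom).2 _ _ _ sq.flip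
  have : CompactSpace R.left := QuasiCompact.compactSpace_of_compactSpace π₁.left
  let 𝒰 := R.left.affineCover.finiteSubcover
  have hA : ∀ k, IsAffine (𝒰.X k) := fun k => inferInstanceAs (IsAffine (Spec _))
  let O : 𝒰.I₀ → Over S := fun k => Over.mk (𝒰.f k ≫ R.hom)
  let o : ∀ k, O k ⟶ R := fun k => Over.homMk (𝒰.f k) rfl
  have hoe : ∀ k, Etale (o k).left := fun k => inferInstanceAs (Etale (𝒰.f k))
  let P : 𝒰.I₀ → EtOver X.obj := fun k =>
    EtOver.mk ((yon S).map (o k ≫ π₁) ≫ E.obj.hom) ((RepWith _).comp_mem _ _ ((repWith_yon_map_iff _ _).2 (by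
      rw [Over.comp_left]
      exact MorphismProperty.comp_mem _ _ _ (hoe k) he1)) E.property)
  let a : ∀ k, P k ⟶ E := fun k => EtOver.homMk (o k ≫ π₁) rfl
  let b : ∀ k, P k ⟶ E' := fun k => EtOver.homMk (o k ≫ π₂) (by
    change (yon S).map (o k ≫ π₂) ≫ E'.obj.hom = (yon S).map (o k ≫ π₁) ≫ E.obj.hom
    rw [Functor.map_comp, Category.assoc, ← sq.w, ← Category.assoc, ← Functor.map_comp])
  refine ⟨𝒰.I₀, inferInstance, P, a, b, hA, fun x x' hxx => ?_, fun W g h x => ?_⟩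
  · obtain ⟨z, hz, -⟩ := (AlgSpB.ofPt_eq_ofPt_iff sq x x').1 hxx
    obtain ⟨z', hz'⟩ := 𝒰.covers z
    refine ⟨𝒰.idx z, z', ?_⟩
    change π₁.left (𝒰.f _ z') = x
    rw [hz', hz]
  · have hgw : (yon S).map g.hom.left ≫ E.obj.hom = (yon S).map h.hom.left ≫ E'.obj.hom :=
      (CostructuredArrow.w g.hom).trans (CostructuredArrow.w h.hom).symm
    obtain ⟨l, hl⟩ := (yon S).map_surjective (sq.lift _ _ hgw)
    have hla : l ≫ π₁ = g.hom.left := (yon S).map_injective (by rw [Functor.map_comp, hl, sq.lift_fst])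
    have hlb : l ≫ π₂ = h.hom.left := (yon S).map_injective (by rw [Functor.map_comp, hl, sq.lift_snd])
    obtain ⟨z', hz'⟩ := 𝒰.covers (l.left x)
    let Q : W.obj.left.left.Opens := l.left ⁻¹ᵁ (𝒰.f (𝒰.idx (l.left x))).opensRange
    obtain ⟨_, ⟨Q', hQ' : IsAffineOpen Q', rfl⟩, hmem, hle⟩ :=
      W.obj.left.left.isBasis_affineOpens.exists_subset_of_mem_open (show x ∈ (Q : Set _) from ⟨z', hz'⟩) Q.2
    let k := 𝒰.idx (l.left x)
    let W₀ : Over S := Over.mk (Scheme.Opens.ι Q' ≫ W.obj.left.hom)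
    let c₀ : W₀ ⟶ W.obj.left := Over.homMk (Scheme.Opens.ι Q') rfl
    let W' : EtOver X.obj := EtOver.mk ((yon S).map c₀ ≫ W.obj.hom)
      ((RepWith _).comp_mem _ _ ((repWith_yon_map_iff _ c₀).2 (inferInstanceAs (Etale (Scheme.Opens.ι Q'))))
        W.property)
    let d₁ : W₀.left ⟶ 𝒰.X k := IsOpenImmersion.lift (𝒰.f k) (Scheme.Opens.ι Q' ≫ l.left) (by
      rintro _ ⟨y, rfl⟩
      exact hle (show (Scheme.Opens.ι Q' y) ∈ Q' from y.2))
    have hd₁ : d₁ ≫ 𝒰.f k = Scheme.Opens.ι Q' ≫ l.left := IsOpenImmersion.lift_fac _ _ _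
    let d₀ : W₀ ⟶ O k := Over.homMk d₁ (by
      change d₁ ≫ 𝒰.f k ≫ R.hom = Scheme.Opens.ι Q' ≫ W.obj.left.hom
      rw [← Category.assoc, hd₁, Category.assoc, Over.w l])
    have hd₀ : d₀ ≫ o k = c₀ ≫ l := Over.OverMorphism.ext hd₁
    let d : W' ⟶ P k := EtOver.homMk d₀ (by
      change (yon S).map d₀ ≫ (yon S).map (o k ≫ π₁) ≫ E.obj.hom = (yon S).map c₀ ≫ W.obj.hom
      rw [← Functor.map_comp_assoc, ← Category.assoc d₀, hd₀, Category.assoc, hla, Functor.map_comp,
        Category.assoc, CostructuredArrow.w g.hom])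
    refine ⟨W', EtOver.homMk c₀ rfl, k, d, hQ', ⟨⟨x, hmem⟩, rfl⟩, ?_, ?_⟩
    · refine EtOver.hom_ext _ _ ?_
      change c₀ ≫ g.hom.left = d₀ ≫ o k ≫ π₁
      rw [← Category.assoc, hd₀, Category.assoc, hla]
    · refine EtOver.hom_ext _ _ ?_
      change c₀ ≫ h.hom.left = d₀ ≫ o k ≫ π₂
      rw [← Category.assoc, hd₀, Category.assoc, hlb]

variable {X : Sp S} {M : ModEt X}

theorem span_image_image {E E' E'' : EtOver X} (g : E' ⟶ E) (h : E'' ⟶ E') (A : Set (sectModEt M E)) :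
    rs M h '' (Submodule.span (gr E') (rs M g '' A) : Set (sectModEt M E')) ⊆
      Submodule.span (gr E'') (rs M (h ≫ g) '' A) := by
  rintro _ ⟨x, hx, rfl⟩
  induction hx using Submodule.span_induction with
  | mem y hy =>
    obtain ⟨z, hz, rfl⟩ := hy
    exact Submodule.subset_span ⟨z, hz, rs_comp g h z⟩
  | zero => rw [map_zero]; exact Submodule.zero_mem _
  | add y z _ _ hy hz => rw [map_add]; exact Submodule.add_mem _ hy hz
  | smul r y _ hy => rw [rs_smul]; exact Submodule.smul_mem _ _ hy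

theorem rs_mem_span {E E' E'' : EtOver X} (g : E' ⟶ E) (h : E'' ⟶ E') {A : Set (sectModEt M E)}
    {x : sectModEt M E'} (hx : x ∈ Submodule.span (gr E') (rs M g '' A)) :
    rs M h x ∈ Submodule.span (gr E'') (rs M (h ≫ g) '' A) :=
  span_image_image g h A ⟨x, hx, rfl⟩

/-- Membership in a submodule may be tested locally. -/
theorem mem_of_point [M.IsQuasicoherent] {E : EtOver X} [IsAffine E.obj.left.left]
    (N : Submodule (gr E) (sectModEt M E)) {m : sectModEt M E}
    (h : ∀ x : E.obj.left.left, ∃ (V : EtOver X) (f : V ⟶ E), x ∈ Set.range f.hom.left.left ∧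
      rs M f m ∈ Submodule.span (gr V) (rs M f '' (N : Set (sectModEt M E)))) : m ∈ N := by
  choose V f hx hm using h
  refine mem_of_local N (AlgSp.ofArrows_mem_etTop V f fun x => ⟨x, hx x⟩) fun W g hg => ?_
  obtain ⟨k, a, rfl⟩ := Sieve.mem_ofArrows_iff .. |>.1 hg
  rw [rs_comp]
  exact rs_mem_span (f k) a (hm k)

end Groth.Agent.AlgSpB.SubQC
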