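import Groth.Agent.AlgSpB.SubQC.Killed

/-!
# Sections supported on a closed set of points with quasi-compact complement
-/

universe u

open CategoryTheory CategoryTheory.Limits AlgebraicGeometry Opposite

set_option backward.isDefEq.respectTransparency false
set_option backward.isDefEq.respectTransparency.types false
set_option autoImplicit false

namespace Groth.Agent.AlgSpB.SubQC

open _root_.AlgSp
open Groth.Agent.AlgSpQC

variable {S : Scheme.{u}} {X : Sp S} {M : ModEt X} {T : Set (Points X)}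

/-- The inverse image on an object of the site of a set of points. -/
def preT (E : EtOver X) (T : Set (Points X)) : Set E.obj.left.left := {w | Points.ofPt E.obj.hom w ∈ T}

theorem preimage_preT {E W : EtOver X} (g : W ⟶ E) : g.hom.left.left ⁻¹' preT E T = preT W T := by
  have hw : (yon S).map g.hom.left ≫ E.obj.hom = W.obj.hom := CostructuredArrow.w g.hom
  ext w
  change Points.ofPt E.obj.hom (g.hom.left.left w) ∈ T ↔ Points.ofPt W.obj.hom w ∈ T
  rw [← hw, Groth.Agent.AlgSpB.ofPt_map_comp]

/-- The zero locus of an ideal of functions. -/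
abbrev zl (E : EtOver X) (I : Ideal (gr E)) : Set E.obj.left.left :=
  E.obj.left.left.zeroLocus (U := ⊤) (I : Set (gr E))

theorem preimage_zl {E W : EtOver X} (g : W ⟶ E) (I : Ideal (gr E)) :
    g.hom.left.left ⁻¹' zl E I = zl W (I.map (gm g)) := by
  rw [zl, zl, Scheme.preimage_zeroLocus, Ideal.map, Scheme.zeroLocus_span]
  rfl

theorem le_radical {E : EtOver X} [IsAffine E.obj.left.left] {I J : Ideal (gr E)} (h : zl E J ⊆ zl E I) :
    I ≤ J.radical := by
  rw [← PrimeSpectrum.zeroLocus_subset_zeroLocus_iff]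
  intro p hp
  rw [zl, zl, ← Scheme.toSpecΓ_preimage_zeroLocus, ← Scheme.toSpecΓ_preimage_zeroLocus] at h
  have h2 := @h (E.obj.left.left.isoSpec.inv p)
  rw [Set.mem_preimage, Set.mem_preimage, ← Scheme.isoSpec_hom, ← Scheme.Hom.comp_apply, Iso.inv_hom_id] at h2
  exact h2 hp

theorem annSect_le_of_le {E W : EtOver X} (g : W ⟶ E) (s : sectModEt M E) :
    (annSect s).map (gm g) ≤ annSect (rs M g s) := by
  rw [Ideal.map_le_iff_le_comap]
  intro a ha
  change a • s = 0 at ha
  change gm g a • rs M g s = 0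
  rw [← rs_smul, ha, map_zero]

theorem zl_mono {E : EtOver X} {I J : Ideal (gr E)} (h : I ≤ J) : zl E J ⊆ zl E I :=
  Scheme.zeroLocus_mono _ h

/-- Inverse images in affine objects are zero loci of finitely generated ideals. -/
def HasFG (X : Sp S) (T : Set (Points X)) : Prop :=
  ∀ (W : EtOver X), IsAffine W.obj.left.left → ∃ I : Ideal (gr W), I.FG ∧ zl W I = preT W T

theorem exists_pow_le {E : EtOver X} [IsAffine E.obj.left.left] {I J : Ideal (gr E)} (hI : I.FG)
    (h : zl E J ⊆ zl E I) : ∃ n : ℕ, I ^ n ≤ J :=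
  Ideal.exists_pow_le_of_le_radical_of_fg (le_radical h) hI

theorem supp_of_killed {E : EtOver X} {I : Ideal (gr E)} (s : sectModEt M E) {n : ℕ}
    (h : ∀ a ∈ I ^ n, a • s = 0) : zl E (annSect s) ⊆ zl E I := by
  intro w hw
  rw [zl, Scheme.mem_zeroLocus_iff] at hw ⊢
  intro a ha hwa
  cases n with
  | zero =>
    refine hw 1 ?_ (by rw [Scheme.basicOpen_of_isUnit _ isUnit_one]; trivial)
    change (1 : gr E) • s = 0
    exact h 1 (by rw [pow_zero, Ideal.one_eq_top]; trivial)
  | succ n =>
    refine hw (a ^ (n + 1)) (h _ (Ideal.pow_mem_pow ha _)) ?_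
    exact (E.obj.left.left.basicOpen_pow a n.succ_pos).symm ▸ hwa

/-- Sections supported on a closed set of points. -/
noncomputable def supported (M : ModEt X) (T : Set (Points X)) (hT : HasFG X T) : LocalSub M where
  carrier E :=
    { carrier := {s | ∀ (W : EtOver X) (g : W ⟶ E), IsAffine W.obj.left.left →
        ∀ I : Ideal (gr W), I.FG → zl W I = preT W T → ∃ n : ℕ, ∀ a ∈ I ^ n, a • rs M g s = 0}
      add_mem' := fun hs ht W g hW I hI e => by
        obtain ⟨n, hn⟩ := hs W g hW I hI e
        obtain ⟨m, hm⟩ := ht W g hW I hI e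
        refine ⟨n + m, fun a ha => ?_⟩
        rw [map_add, smul_add, hn a (Ideal.pow_le_pow_right (n.le_add_right m) ha),
          hm a (Ideal.pow_le_pow_right (m.le_add_left n) ha), add_zero]
      zero_mem' := fun W g hW I hI e => ⟨0, fun a ha => by rw [map_zero, smul_zero]⟩
      smul_mem' := fun r s hs W g hW I hI e => by
        obtain ⟨n, hn⟩ := hs W g hW I hI e
        exact ⟨n, fun a ha => by rw [rs_smul, smul_comm, hn a ha, smul_zero]⟩ }
  res_mem g s hs W h hW I hI e := by
    obtain ⟨n, hn⟩ := hs W (h ≫ g) hW I hI e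
    exact ⟨n, fun a ha => by rw [← rs_comp]; exact hn a ha⟩
  local_mem {E R} hR s hs W g hW I hI e := by
    obtain ⟨κ, _, V, f, hV, hTf, hf⟩ := exists_affine_family (GrothendieckTopology.pullback_stable (etTop X) g hR)
    have key : ∀ k, ∃ n : ℕ, ∀ a ∈ I ^ n, gm (f k) a • rs M (f k) (rs M g s) = 0 := fun k => by
      obtain ⟨n, hn⟩ := hs (V k) (f k ≫ g) (hTf k) (V k) (𝟙 _) (hV k) (I.map (gm (f k))) (hI.map _)
        (by rw [← preimage_zl, e, preimage_preT])
      refine ⟨n, fun a ha => ?_⟩
      have h := hn (gm (f k) a) (by rw [← Ideal.map_pow]; exact Ideal.mem_map_of_mem _ ha)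
      rwa [rs_id, rs_comp] at h
    choose n hn using key
    cases nonempty_fintype κ
    refine ⟨Finset.univ.sup n, fun a ha => eq_of_family f hf fun k => ?_⟩
    rw [rs_smul, map_zero]
    exact hn k a (Ideal.pow_le_pow_right (Finset.le_sup (Finset.mem_univ k)) ha)

theorem mem_supported_iff (hT : HasFG X T) {E : EtOver X} (hE : IsAffine E.obj.left.left)
    {I : Ideal (gr E)} (hI : I.FG) (e : zl E I = preT E T) (s : sectModEt M E) :
    s ∈ (supported M T hT).carrier E ↔ ∃ n : ℕ, ∀ a ∈ I ^ n, a • s = 0 := by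
  refine ⟨fun h => ?_, fun ⟨n, hn⟩ W g hW J hJ e' => ?_⟩
  · simpa only [rs_id] using h E (𝟙 E) hE I hI e
  · have hle : zl W (annSect (rs M g s)) ⊆ zl W J := by
      refine (zl_mono (annSect_le_of_le g s)).trans ?_
      rw [← preimage_zl, e', ← preimage_preT g (T := T), ← e]
      exact Set.preimage_mono (supp_of_killed s hn)
    obtain ⟨m, hm⟩ := exists_pow_le hJ hle
    exact ⟨m, fun a ha => hm ha⟩

theorem mem_supported_iff_subset (hT : HasFG X T) {E : EtOver X} (hE : IsAffine E.obj.left.left)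
    (s : sectModEt M E) : s ∈ (supported M T hT).carrier E ↔ zl E (annSect s) ⊆ preT E T := by
  obtain ⟨I, hI, e⟩ := hT E hE
  rw [mem_supported_iff hT hE hI e, ← e]
  exact ⟨fun ⟨n, hn⟩ => supp_of_killed s hn, fun h => (exists_pow_le hI h).imp fun n hn a ha => hn ha⟩

theorem isQuasicoherent_supported [M.IsQuasicoherent] (hT : HasFG X T) :
    (supported M T hT).mod.IsQuasicoherent := by
  refine LocalSub.isQuasicoherent _ fun {E W} g hE hW l hl => ?_
  obtain ⟨I, hI, e⟩ := hT E hE
  obtain ⟨n, hn⟩ := (mem_supported_iff hT hW (hI.map (gm g)) (by rw [← preimage_zl, e, preimage_preT]) l).1 hl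
  obtain ⟨r, a, ha⟩ := Submodule.fg_iff_exists_fin_generating_family.1 (Submodule.FG.pow hI n)
  obtain ⟨c, hc, el⟩ := exists_of_killed g a (l := l) fun i => hn _ (by
    rw [← Ideal.map_pow]
    exact Ideal.mem_map_of_mem _ (ha ▸ Submodule.subset_span ⟨i, rfl⟩))
  refine ⟨c, fun m hm => (mem_supported_iff hT hE hI e m).2 ⟨n, fun b hb => ?_⟩, el⟩
  rw [← ha] at hb
  induction hb using Submodule.span_induction with
  | mem x hx =>
    obtain ⟨i, rfl⟩ := hx
    exact hc m hm i
  | zero => exact zero_smul _ _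
  | add x y _ _ hx hy => rw [add_smul, hx, hy, add_zero]
  | smul d x _ hx => rw [smul_eq_mul, mul_smul, hx, smul_zero]

end Groth.Agent.AlgSpB.SubQC
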